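import Mathlib

/-!
Counting phases: the number of tuples of norm one elements with prescribed weighted sum and
product one, by character sums and the fourth moment.
-/

set_option autoImplicit false

namespace Cfsg.Agent.H63.UDec

open Finset

section parseval

variable {A : Type*} [AddCommGroup A] [Fintype A] {P : Type*} [Fintype P]

theorem sum_norm_sq_le [DecidableEq A] (f : P → A) (w : P → ℂ) (hw : ∀ p, ‖w p‖ ≤ 1) :
    ∑ ψ : AddChar A ℂ, ‖∑ p, w p * ψ (f p)‖ ^ 2 ≤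
      Fintype.card A * (#{p : P × P | f p.1 = f p.2} : ℝ) := by
  have key : ∀ ψ : AddChar A ℂ, ((‖∑ p, w p * ψ (f p)‖ ^ 2 : ℝ) : ℂ) =
      ∑ p : P × P, w p.1 * (starRingEnd ℂ) (w p.2) * ψ (f p.1 - f p.2) := by
    intro ψ
    rw [Complex.ofReal_pow, ← Complex.mul_conj', map_sum, Finset.sum_mul_sum, Fintype.sum_prod_type]
    refine sum_congr rfl fun p _ => sum_congr rfl fun p' _ => ?_
    rw [map_mul, sub_eq_add_neg, AddChar.map_add_eq_mul, AddChar.map_neg_eq_conj]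
    ring
  have h : ((∑ ψ : AddChar A ℂ, ‖∑ p, w p * ψ (f p)‖ ^ 2 : ℝ) : ℂ) =
      ∑ p ∈ ({p : P × P | f p.1 = f p.2} : Finset (P × P)),
        w p.1 * (starRingEnd ℂ) (w p.2) * (Fintype.card A : ℂ) := by
    rw [Complex.ofReal_sum, sum_congr rfl fun ψ _ => key ψ, sum_comm, sum_filter]
    refine sum_congr rfl fun p _ => ?_
    rw [← mul_sum, AddChar.sum_apply_eq_ite]
    simp only [sub_eq_zero]
    split <;> simp
  calc ∑ ψ : AddChar A ℂ, ‖∑ p, w p * ψ (f p)‖ ^ 2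
      = ‖((∑ ψ : AddChar A ℂ, ‖∑ p, w p * ψ (f p)‖ ^ 2 : ℝ) : ℂ)‖ := by
        rw [Complex.norm_real, Real.norm_eq_abs, abs_of_nonneg]
        exact sum_nonneg fun ψ _ => sq_nonneg _
    _ ≤ ∑ p ∈ ({p : P × P | f p.1 = f p.2} : Finset (P × P)), (Fintype.card A : ℝ) := by
        rw [h]
        refine (norm_sum_le _ _).trans (sum_le_sum fun p _ => ?_)
        rw [norm_mul, norm_mul, Complex.norm_conj, Complex.norm_natCast]
        exact mul_le_of_le_one_left (Nat.cast_nonneg _)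
          (mul_le_one₀ (hw _) (norm_nonneg _) (hw _))
    _ = _ := by rw [sum_const, nsmul_eq_mul, mul_comm]

theorem card_pairs_le [DecidableEq A] [DecidableEq P] (f : P → A) (Z : Finset P) (z r : ℕ)
    (hz : ∀ p ∈ Z, #{p' | f p = f p'} ≤ z) (hr : ∀ p ∉ Z, #{p' | f p = f p'} ≤ r) :
    #{p : P × P | f p.1 = f p.2} ≤ #Z * z + #Zᶜ * r := by
  have h : #{p : P × P | f p.1 = f p.2} = ∑ p : P, #{p' | f p = f p'} := by
    simp only [card_filter, Fintype.sum_prod_type]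
  rw [h, ← sum_add_sum_compl Z]
  exact Nat.add_le_add ((sum_le_card_nsmul _ _ z hz).trans (le_of_eq (smul_eq_mul _ _)))
    ((sum_le_card_nsmul _ _ r fun p hp => hr p (mem_compl.1 hp)).trans (le_of_eq (smul_eq_mul _ _)))

end parseval

variable {F : Type*} [Field F]

/-- the norm one elements -/
def circ (F : Type*) [Field F] (q : ℕ) : Subgroup Fˣ := (powMonoidHom (q + 1)).ker

theorem mem_circ {q : ℕ} {x : Fˣ} : x ∈ circ F q ↔ (x : F) * (x : F) ^ q = 1 := by
  rw [circ, MonoidHom.mem_ker, powMonoidHom_apply, Units.ext_iff, Units.val_pow_eq_pow_val,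
    pow_succ', Units.val_one]

variable [Fintype F] {q : ℕ}

theorem pair_eq (hfrob : ∀ x y : F, (x + y) ^ q = x ^ q + y ^ q) {a b c d : circ F q}
    (hs : (a.1 : F) + b.1 = c.1 + d.1) (h0 : (a.1 : F) + b.1 ≠ 0) :
    (c = a ∧ d = b) ∨ (c = b ∧ d = a) := by
  have e : ∀ x : circ F q, (x.1 : F) * (x.1 : F) ^ q = 1 := fun x => mem_circ.1 x.2
  have n0 : ∀ x : circ F q, (x.1 : F) ≠ 0 := fun x => x.1.ne_zero
  have hq : (a.1 : F) ^ q + (b.1 : F) ^ q = (c.1 : F) ^ q + (d.1 : F) ^ q := by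
    rw [← hfrob, hs, hfrob]
  have h1 : ((a.1 : F) + b.1) * ((c.1 : F) * d.1) = ((a.1 : F) + b.1) * ((a.1 : F) * b.1) := by
    linear_combination ((a.1 : F) * b.1 * c.1 * d.1) * hq - (b.1 * c.1 * d.1 : F) * e a -
      (a.1 * c.1 * d.1 : F) * e b + (a.1 * b.1 * d.1 : F) * e c + (a.1 * b.1 * c.1 : F) * e d -
      (a.1 * b.1 : F) * hs
  have hp : (c.1 : F) * d.1 = a.1 * b.1 := mul_left_cancel₀ h0 h1
  have h2 : ((c.1 : F) - a.1) * ((c.1 : F) - b.1) = 0 := by
    linear_combination hp * (-1) - (c.1 : F) * hs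
  rcases mul_eq_zero.1 h2 with h | h
  · refine Or.inl ⟨Subtype.ext (Units.ext (sub_eq_zero.1 h)), Subtype.ext (Units.ext ?_)⟩
    linear_combination -hs - sub_eq_zero.1 h
  · refine Or.inr ⟨Subtype.ext (Units.ext (sub_eq_zero.1 h)), Subtype.ext (Units.ext ?_)⟩
    linear_combination -hs - sub_eq_zero.1 h

variable [DecidableEq F] [Fintype (circ F q)]

/-- value of a phase with weight `a` -/
def phaseVal (a : F) (θ : circ F q) : F × Additive (circ F q) := (a * (θ.1 : F), Additive.ofMul θ)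

noncomputable def phaseSum (ψ : AddChar (F × Additive (circ F q)) ℂ) (a : F) : ℂ :=
  ∑ θ : circ F q, ψ (phaseVal a θ)

theorem phaseSum_sq (ψ : AddChar (F × Additive (circ F q)) ℂ) (a : F) :
    phaseSum ψ a ^ 2 = ∑ p : circ F q × circ F q, ψ (phaseVal a p.1 + phaseVal a p.2) := by
  rw [pow_two, phaseSum, Finset.sum_mul_sum, Fintype.sum_prod_type]
  exact sum_congr rfl fun _ _ => sum_congr rfl fun _ _ => (AddChar.map_add_eq_mul ψ _ _).symm

theorem sum_phaseSum_pow (hfrob : ∀ x y : F, (x + y) ^ q = x ^ q + y ^ q) (hF : Fintype.card F = q ^ 2)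
    (hC : Fintype.card (circ F q) = q + 1) {a : F} (ha : a ≠ 0) :
    ∑ ψ : AddChar (F × Additive (circ F q)) ℂ, ‖phaseSum ψ a‖ ^ 4 ≤
      2 * (q : ℝ) ^ 2 * (q + 1) ^ 3 := by
  classical
  set f : circ F q × circ F q → F × Additive (circ F q) := fun p => phaseVal a p.1 + phaseVal a p.2
  have h := sum_norm_sq_le f 1 (fun _ => by simp)
  have hc : #{p : (circ F q × circ F q) × (circ F q × circ F q) | f p.1 = f p.2} ≤ 2 * (q + 1) ^ 2 := by
    refine (card_pairs_le f univ 2 0 (fun p _ => ?_) fun p hp => absurd (mem_univ p) hp).trans ?_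
    · refine (card_le_card (t := {p, (p.2, p.1)}) fun p' hp' => ?_).trans card_le_two
      simp only [mem_filter, mem_univ, true_and, f, phaseVal, Prod.mk_add_mk, Prod.mk.injEq] at hp'
      obtain ⟨h1, h2⟩ := hp'
      have h2' : p.1 * p.2 = p'.1 * p'.2 := h2
      have h2F : (p.1.1 : F) * p.2.1 = (p'.1.1 : F) * p'.2.1 :=
        congrArg (fun x : circ F q => (x.1 : F)) h2'
      rw [← mul_add, ← mul_add] at h1
      have h1' := mul_left_cancel₀ ha h1
      have h3 : ((p'.1.1 : F) - p.1.1) * ((p'.1.1 : F) - p.2.1) = 0 := by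
        linear_combination h2F - (p'.1.1 : F) * h1'
      rcases mul_eq_zero.1 h3 with h | h
      · refine mem_insert.2 (Or.inl (Prod.ext (Subtype.ext (Units.ext (sub_eq_zero.1 h)))
          (Subtype.ext (Units.ext ?_))))
        linear_combination -h1' - sub_eq_zero.1 h
      · refine mem_insert.2 (Or.inr (mem_singleton.2 (Prod.ext (Subtype.ext (Units.ext (sub_eq_zero.1 h)))
          (Subtype.ext (Units.ext ?_)))))
        linear_combination -h1' - sub_eq_zero.1 h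
    · simp [hC]; ring_nf; omega
  calc ∑ ψ : AddChar (F × Additive (circ F q)) ℂ, ‖phaseSum ψ a‖ ^ 4
      = ∑ ψ : AddChar (F × Additive (circ F q)) ℂ, ‖∑ p, (1 : circ F q × circ F q → ℂ) p * ψ (f p)‖ ^ 2 := by
        refine sum_congr rfl fun ψ _ => ?_
        simp only [Pi.one_apply, one_mul, f, ← phaseSum_sq, norm_pow]
        ring
    _ ≤ _ := h.trans (mul_le_mul_of_nonneg_left (Nat.cast_le.2 hc) (Nat.cast_nonneg _))
    _ = _ := by
        rw [Fintype.card_prod, Fintype.card_additive, hF, hC]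
        push_cast
        ring

theorem phaseSum_le (hfrob : ∀ x y : F, (x + y) ^ q = x ^ q + y ^ q) (hF : Fintype.card F = q ^ 2)
    (hC : Fintype.card (circ F q) = q + 1) {a : F} (ha : a ≠ 0)
    {ψ : AddChar (F × Additive (circ F q)) ℂ} (hψ : ψ ≠ 0) :
    ‖phaseSum ψ a‖ ^ 4 ≤ (q : ℝ) ^ 2 * (3 * q + 1) := by
  classical
  set ψ1 : AddChar F ℂ := ψ.compAddMonoidHom (AddMonoidHom.inl F (Additive (circ F q)))
  set χ : AddChar (Additive (circ F q)) ℂ :=
    ψ.compAddMonoidHom (AddMonoidHom.inr F (Additive (circ F q)))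
  have hsplit : ∀ x y, ψ (x, y) = ψ1 x * χ y := fun x y => by
    rw [show (x, y) = ((x, 0) : F × Additive (circ F q)) + (0, y) by simp, AddChar.map_add_eq_mul]
    rfl
  have hS : ∀ b, phaseSum ψ b = ∑ θ : circ F q, χ (Additive.ofMul θ) * ψ1 (b * (θ.1 : F)) :=
    fun b => sum_congr rfl fun θ _ => by rw [phaseVal, hsplit, mul_comm]
  by_cases h1 : ψ1 = 0
  · have hχ : χ ≠ 0 := fun h => hψ (by
      refine DFunLike.ext _ _ fun x => ?_
      obtain ⟨x, y⟩ := x
      rw [hsplit, h1, h]; simp)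
    have h0 : phaseSum ψ a = 0 := by
      rw [hS]
      simp only [h1, AddChar.zero_apply, mul_one]
      exact (Equiv.sum_comp Additive.ofMul fun y => χ y).trans (AddChar.sum_eq_zero_iff_ne_zero.2 hχ)
    rw [h0]
    norm_num
    positivity
  -- rotating the additive character
  let rot : circ F q → AddChar F ℂ := fun u => ψ1.compAddMonoidHom (AddMonoidHom.mulLeft (a * (u.1 : F)))
  have hrot : Function.Injective rot := by
    intro u v huv
    by_contra hne
    apply h1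
    refine DFunLike.ext _ _ fun x => ?_
    have hd : a * (u.1 : F) - a * (v.1 : F) ≠ 0 := fun h => hne (Subtype.ext (Units.ext
      (mul_left_cancel₀ ha (sub_eq_zero.1 h))))
    have := DFunLike.congr_fun huv (x / (a * (u.1 : F) - a * (v.1 : F)))
    simp only [rot, AddChar.compAddMonoidHom_apply, AddMonoidHom.coe_mulLeft] at this
    conv_lhs => rw [show x = a * (u.1 : F) * (x / (a * (u.1 : F) - a * (v.1 : F))) +
      -(a * (v.1 : F) * (x / (a * (u.1 : F) - a * (v.1 : F)))) by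
        rw [← sub_eq_add_neg, ← sub_mul, mul_div_cancel₀ _ hd]]
    rw [AddChar.map_add_eq_mul, this, ← AddChar.map_add_eq_mul, add_neg_cancel]
    simp
  have hnorm : ∀ u, ‖∑ θ : circ F q, χ (Additive.ofMul θ) * rot u (θ.1 : F)‖ = ‖phaseSum ψ a‖ := by
    intro u
    rw [hS, ← Equiv.sum_comp (Equiv.mulLeft u) fun θ : circ F q =>
      χ (Additive.ofMul θ) * ψ1 (a * (θ.1 : F))]
    simp only [Equiv.coe_mulLeft, ofMul_mul, AddChar.map_add_eq_mul, mul_assoc, ← mul_sum]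
    rw [norm_mul, AddChar.norm_apply, one_mul]
    congr 1
    refine sum_congr rfl fun θ _ => ?_
    simp [rot, mul_assoc]
  set g : circ F q × circ F q → F := fun p => (p.1.1 : F) + p.2.1
  set w : circ F q × circ F q → ℂ := fun p => χ (Additive.ofMul p.1) * χ (Additive.ofMul p.2)
  have hsq : ∀ φ : AddChar F ℂ, (∑ θ : circ F q, χ (Additive.ofMul θ) * φ (θ.1 : F)) ^ 2 =
      ∑ p, w p * φ (g p) := by
    intro φ
    rw [pow_two, Finset.sum_mul_sum, Fintype.sum_prod_type]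
    exact sum_congr rfl fun x _ => sum_congr rfl fun y _ => by
      simp only [w, g, AddChar.map_add_eq_mul]; ring
  have hpar := sum_norm_sq_le g w (fun p => by simp [w, AddChar.norm_apply])
  set Z : Finset (circ F q × circ F q) := {p | g p = 0}
  have hZ : ∀ p : circ F q × circ F q, g p = 0 → #{p' | g p = g p'} ≤ q + 1 := by
    intro p hp
    rw [← hC, ← Finset.card_univ]
    refine card_le_card_of_injOn Prod.fst (fun _ _ => mem_univ _) fun x hx y hy hxy => ?_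
    simp only [coe_filter, mem_univ, true_and, Set.mem_setOf_eq, g] at hx hy
    refine Prod.ext hxy (Subtype.ext (Units.ext ?_))
    have hxy' : (x.1.1 : F) = y.1.1 := by rw [hxy]
    linear_combination hy - hx - hxy'
  have hZc : #Z ≤ q + 1 := by
    rw [← hC, ← Finset.card_univ]
    refine card_le_card_of_injOn Prod.fst (fun _ _ => mem_univ _) fun x hx y hy hxy => ?_
    simp only [Z, coe_filter, mem_univ, true_and, Set.mem_setOf_eq, g] at hx hy
    refine Prod.ext hxy (Subtype.ext (Units.ext ?_))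
    have hxy' : (x.1.1 : F) = y.1.1 := by rw [hxy]
    linear_combination hx - hy - hxy'
  have hpairs : #{p : (circ F q × circ F q) × (circ F q × circ F q) | g p.1 = g p.2} ≤
      (q + 1) * (3 * q + 1) := by
    refine (card_pairs_le g Z (q + 1) 2 (fun p hp => hZ p (mem_filter.1 hp).2) fun p hp => ?_).trans ?_
    · refine (card_le_card (t := {p, (p.2, p.1)}) fun p' hp' => ?_).trans card_le_two
      simp only [Z, mem_filter, mem_univ, true_and, g] at hp hp'
      rcases pair_eq hfrob hp' hp with ⟨h, h'⟩ | ⟨h, h'⟩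
      · exact mem_insert.2 (Or.inl (Prod.ext h h'))
      · exact mem_insert.2 (Or.inr (mem_singleton.2 (Prod.ext h h')))
    · rw [card_compl, Fintype.card_prod, hC]
      have hle : #Z ≤ (q + 1) * (q + 1) := hZc.trans (Nat.le_mul_of_pos_left _ q.succ_pos)
      have hq : 1 ≤ q := by
        rcases Nat.eq_zero_or_pos q with rfl | h
        · simp at hF
        · exact h
      have h2 : (#Z : ℤ) * (q - 1) ≤ (q + 1) * (q - 1) :=
        mul_le_mul_of_nonneg_right (by exact_mod_cast hZc) (by omega)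
      zify [hle]
      nlinarith
  have h4 : ((q : ℝ) + 1) * ‖phaseSum ψ a‖ ^ 4 ≤ (q + 1) * ((q : ℝ) ^ 2 * (3 * q + 1)) := by
    calc ((q : ℝ) + 1) * ‖phaseSum ψ a‖ ^ 4
        = ∑ φ ∈ univ.image rot, ‖∑ p, w p * φ (g p)‖ ^ 2 := by
          rw [sum_image hrot.injOn]
          simp only [← hsq, norm_pow, hnorm, sum_const, Finset.card_univ, hC, nsmul_eq_mul]
          push_cast
          ring
      _ ≤ ∑ φ : AddChar F ℂ, ‖∑ p, w p * φ (g p)‖ ^ 2 :=
          sum_le_sum_of_subset_of_nonneg (subset_univ _) fun _ _ _ => sq_nonneg _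
      _ ≤ (Fintype.card F : ℝ) * _ := hpar
      _ ≤ (Fintype.card F : ℝ) * (((q + 1) * (3 * q + 1) : ℕ) : ℝ) :=
          mul_le_mul_of_nonneg_left (Nat.cast_le.2 hpairs) (Nat.cast_nonneg _)
      _ = _ := by rw [hF]; push_cast; ring
  exact le_of_mul_le_mul_left h4 (by positivity)

theorem numeric_base {q : ℕ} (hq : 3 ≤ q) :
    81 * q ^ 8 * (q ^ 2 * (3 * q + 1)) ^ 9 ≤ (q + 1) ^ 40 := by
  rcases le_or_gt 17 q with h | h
  · calc 81 * q ^ 8 * (q ^ 2 * (3 * q + 1)) ^ 9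
        ≤ 81 * q ^ 8 * (q ^ 2 * (3 * (q + 1))) ^ 9 := by gcongr; omega
      _ = 1594323 * q ^ 26 * (q + 1) ^ 9 := by ring
      _ ≤ (q + 1) ^ 5 * (q + 1) ^ 26 * (q + 1) ^ 9 := by
          gcongr
          · exact le_trans (by norm_num) (Nat.pow_le_pow_left (show 18 ≤ q + 1 by omega) 5)
          · omega
      _ = _ := by ring
  · interval_cases q <;> norm_num

theorem numeric {q V : ℕ} (hq : 3 ≤ q) (hV : 13 ≤ V) :
    81 * (2 * q ^ 2 * (q + 1) ^ 3) ^ 4 * (q ^ 2 * (3 * q + 1)) ^ (V - 4) ≤ 16 * (q + 1) ^ (4 * V) := by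
  induction V, hV using Nat.le_induction with
  | base =>
    calc _ = 16 * (q + 1) ^ 12 * (81 * q ^ 8 * (q ^ 2 * (3 * q + 1)) ^ 9) := by norm_num; ring
      _ ≤ 16 * (q + 1) ^ 12 * (q + 1) ^ 40 := Nat.mul_le_mul_left _ (numeric_base hq)
      _ = _ := by norm_num; ring
  | succ V hV ih =>
    have hstep : q ^ 2 * (3 * q + 1) ≤ (q + 1) ^ 4 := by nlinarith
    rw [show V + 1 - 4 = V - 4 + 1 by omega, show 4 * (V + 1) = 4 * V + 4 by ring]
    calc 81 * (2 * q ^ 2 * (q + 1) ^ 3) ^ 4 * (q ^ 2 * (3 * q + 1)) ^ (V - 4 + 1)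
        = 81 * (2 * q ^ 2 * (q + 1) ^ 3) ^ 4 * (q ^ 2 * (3 * q + 1)) ^ (V - 4) *
            (q ^ 2 * (3 * q + 1)) := by rw [pow_succ (q ^ 2 * (3 * q + 1))]; ring
      _ ≤ 16 * (q + 1) ^ (4 * V) * (q + 1) ^ 4 := Nat.mul_le_mul ih hstep
      _ = _ := by rw [pow_add, mul_assoc]

/-- There are many solutions. -/
theorem card_phases {ι : Type*} [Fintype ι] [DecidableEq ι] (hq : 3 ≤ q)
    (hfrob : ∀ x y : F, (x + y) ^ q = x ^ q + y ^ q) (hF : Fintype.card F = q ^ 2)
    (hC : Fintype.card (circ F q) = q + 1) (hV : 13 ≤ Fintype.card ι) (a : ι → F)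
    (ha : ∀ i, a i ≠ 0) (c : F) :
    (q + 1) ^ Fintype.card ι ≤
      3 * (q ^ 2 * (q + 1)) * #{θ : ι → circ F q | ∑ i, a i * ((θ i).1 : F) = c ∧ ∏ i, θ i = 1} := by
  classical
  set V := Fintype.card ι with hVdef
  set A := F × Additive (circ F q)
  set Sol : Finset (ι → circ F q) :=
    {θ : ι → circ F q | ∑ i, a i * ((θ i).1 : F) = c ∧ ∏ i, θ i = 1}
  have hA : Fintype.card A = q ^ 2 * (q + 1) := by
    rw [Fintype.card_prod, Fintype.card_additive, hF, hC]
  set z : A := (c, 0)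
  have hiff : ∀ θ : ι → circ F q, (∑ i, phaseVal (a i) (θ i)) - z = 0 ↔ θ ∈ Sol := by
    intro θ
    have e1 : (∑ i, phaseVal (a i) (θ i)).1 = ∑ i, a i * ((θ i).1 : F) := Prod.fst_sum
    have e2 : (∑ i, phaseVal (a i) (θ i)).2 = ∑ i, Additive.ofMul (θ i) := Prod.snd_sum
    rw [sub_eq_zero, Prod.ext_iff, e1, e2, ← ofMul_prod]
    simp only [Sol, z, mem_filter, mem_univ, true_and, ofMul_eq_zero]
  have hmain : ((Fintype.card A * #Sol : ℕ) : ℂ) =
      ∑ ψ : AddChar A ℂ, ψ (-z) * ∏ i, phaseSum ψ (a i) := by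
    have h1 : ∀ ψ : AddChar A ℂ, ψ (-z) * ∏ i, phaseSum ψ (a i) =
        ∑ θ : ι → circ F q, ψ ((∑ i, phaseVal (a i) (θ i)) - z) := by
      intro ψ
      simp only [phaseSum]
      rw [Fintype.prod_sum, mul_sum]
      refine sum_congr rfl fun θ _ => ?_
      rw [sub_eq_add_neg, AddChar.map_add_eq_mul, mul_comm]
      congr 1
      exact (map_prod ψ.toMonoidHom (fun i => Multiplicative.ofAdd (phaseVal (a i) (θ i))) univ).symm
    rw [sum_congr rfl fun ψ _ => h1 ψ, sum_comm]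
    simp only [AddChar.sum_apply_eq_ite]
    rw [sum_ite, sum_const_zero, add_zero, sum_const, nsmul_eq_mul, Nat.cast_mul, mul_comm]
    congr 2
    exact congrArg Finset.card (Finset.ext fun θ => by simp [hiff])
  -- the error term
  set B : ℝ := (q : ℝ) ^ 2 * (3 * q + 1) with hBdef
  set W : ℝ := 2 * (q : ℝ) ^ 2 * (q + 1) ^ 3 with hWdef
  set M : ℝ := Real.sqrt (Real.sqrt B)
  have hB : 0 ≤ B := by positivity
  have hM : M ^ 4 = B := by
    rw [show (4 : ℕ) = 2 * 2 from rfl, pow_mul, Real.sq_sqrt (Real.sqrt_nonneg _), Real.sq_sqrt hB]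
  obtain ⟨T, -, hT⟩ := exists_subset_card_eq (s := (univ : Finset ι)) (n := 4) (by
    rw [card_univ]; omega)
  have hbound : ∀ ψ : AddChar A ℂ, ψ ≠ 0 → ‖ψ (-z) * ∏ i, phaseSum ψ (a i)‖ ≤
      M ^ (V - 4) * ((∑ i ∈ T, ‖phaseSum ψ (a i)‖ ^ 4) / 4) := by
    intro ψ hψ
    rw [norm_mul, AddChar.norm_apply, one_mul, norm_prod, ← prod_mul_prod_compl T, mul_comm]
    refine mul_le_mul ?_ ?_ (prod_nonneg fun _ _ => norm_nonneg _) (by positivity)
    · rw [show V - 4 = #Tᶜ by rw [card_compl, hT], ← prod_const]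
      refine prod_le_prod (fun _ _ => norm_nonneg _) fun i _ => ?_
      exact le_of_pow_le_pow_left₀ (show (4 : ℕ) ≠ 0 by norm_num) (Real.sqrt_nonneg _)
        (by rw [hM]; exact phaseSum_le hfrob hF hC (ha i) hψ)
    · obtain ⟨x, y, u, v, hxy, hxu, hxv, hyu, hyv, huv, rfl⟩ := card_eq_four.1 hT
      simp only [prod_insert, sum_insert, mem_insert, mem_singleton, hxy, hxu, hxv, hyu, hyv, huv,
        or_self, not_false_eq_true, prod_singleton, sum_singleton]
      set p := ‖phaseSum ψ (a x)‖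
      set r := ‖phaseSum ψ (a y)‖
      set s := ‖phaseSum ψ (a u)‖
      set t := ‖phaseSum ψ (a v)‖
      nlinarith [sq_nonneg (p * r - s * t), sq_nonneg (p ^ 2 - r ^ 2), sq_nonneg (s ^ 2 - t ^ 2)]
  have hne : ‖((Fintype.card A * #Sol : ℕ) : ℂ) - ((q : ℂ) + 1) ^ V‖ ≤ M ^ (V - 4) * W := by
    rw [hmain, ← add_sum_erase _ _ (mem_univ (0 : AddChar A ℂ))]
    have h0 : (0 : AddChar A ℂ) (-z) * ∏ i, phaseSum (0 : AddChar A ℂ) (a i) = ((q : ℂ) + 1) ^ V := by
      simp [phaseSum, hC, hVdef]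
    rw [h0, add_sub_cancel_left]
    refine (norm_sum_le _ _).trans ((sum_le_sum fun ψ hψ => hbound ψ (mem_erase.1 hψ).1).trans ?_)
    rw [← mul_sum, ← sum_div]
    refine mul_le_mul_of_nonneg_left ?_ (by positivity)
    rw [div_le_iff₀ (by norm_num : (0 : ℝ) < 4)]
    calc ∑ ψ ∈ univ.erase 0, ∑ i ∈ T, ‖phaseSum ψ (a i)‖ ^ 4
        ≤ ∑ ψ : AddChar A ℂ, ∑ i ∈ T, ‖phaseSum ψ (a i)‖ ^ 4 :=
          sum_le_sum_of_subset_of_nonneg (erase_subset _ _) fun _ _ _ =>
            sum_nonneg fun _ _ => by positivity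
      _ = ∑ i ∈ T, ∑ ψ : AddChar A ℂ, ‖phaseSum ψ (a i)‖ ^ 4 := sum_comm
      _ ≤ ∑ i ∈ T, W := sum_le_sum fun i _ => sum_phaseSum_pow hfrob hF hC (ha i)
      _ = W * 4 := by rw [sum_const, hT]; ring
  have hnum : 3 * (M ^ (V - 4) * W) ≤ 2 * ((q : ℝ) + 1) ^ V := by
    refine le_of_pow_le_pow_left₀ (by norm_num : (4 : ℕ) ≠ 0) (by positivity) ?_
    have h := (Nat.cast_le (α := ℝ)).2 (numeric hq hV)
    push_cast at h
    calc (3 * (M ^ (V - 4) * W)) ^ 4 = 81 * W ^ 4 * (M ^ 4) ^ (V - 4) := by ring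
      _ ≤ 16 * ((q : ℝ) + 1) ^ (4 * V) := by rw [hM]; exact h
      _ = (2 * ((q : ℝ) + 1) ^ V) ^ 4 := by rw [mul_comm 4 V, pow_mul, mul_pow]; norm_num
  have h1 : ((q : ℝ) + 1) ^ V - (Fintype.card A * #Sol : ℕ) ≤ M ^ (V - 4) * W := by
    refine le_trans ?_ hne
    rw [norm_sub_rev]
    refine le_trans (le_abs_self _) ?_
    rw [← Real.norm_eq_abs, ← Complex.norm_real]
    push_cast
    rfl
  have h2 : (((q + 1) ^ V : ℕ) : ℝ) ≤ ((3 * (q ^ 2 * (q + 1)) * #Sol : ℕ) : ℝ) := by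
    push_cast [hA] at h1 ⊢
    nlinarith [pow_nonneg (add_nonneg (Nat.cast_nonneg q) zero_le_one : (0 : ℝ) ≤ (q : ℝ) + 1) V]
  exact_mod_cast h2

/-- A solution outside a small set. -/
theorem exists_phases {ι : Type*} [Fintype ι] [DecidableEq ι] (hq : 3 ≤ q)
    (hfrob : ∀ x y : F, (x + y) ^ q = x ^ q + y ^ q) (hF : Fintype.card F = q ^ 2)
    (hC : Fintype.card (circ F q) = q + 1) (hV : 13 ≤ Fintype.card ι) (a : ι → F)
    (ha : ∀ i, a i ≠ 0) (c : F) (K : Finset (ι → circ F q))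
    (hK : 3 * (q ^ 2 * (q + 1)) * #K < (q + 1) ^ Fintype.card ι) :
    ∃ θ : ι → circ F q, θ ∉ K ∧ ∑ i, a i * ((θ i).1 : F) = c ∧ ∏ i, θ i = 1 := by
  classical
  by_contra hcon
  push Not at hcon
  have h := card_phases hq hfrob hF hC hV a ha c
  have hsub : #{θ : ι → circ F q | ∑ i, a i * ((θ i).1 : F) = c ∧ ∏ i, θ i = 1} ≤ #K := by
    refine card_le_card fun θ hθ => ?_
    by_contra hn
    exact hcon θ hn (mem_filter.1 hθ).2.1 (mem_filter.1 hθ).2.2
  exact absurd (h.trans (Nat.mul_le_mul_left _ hsub)) (not_le.2 hK)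

end Cfsg.Agent.H63.UDec
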