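import Cfsg.Agent.H63.UDec.Basic
import Cfsg.Agent.H63.UDec.CharSum

/-!
A vector without zero coordinates gives one with a zero coordinate meeting two blocks.
-/

set_option autoImplicit false

namespace Cfsg.Agent.H63.UDec

open scoped MatrixGroups Matrix
open Finset Matrix Cfsg Cfsg.Agent.H95 Cfsg.Agent.Symplectic

variable {F : Type*} [Field F] [Fintype F] {n q : ℕ} {σ : F ≃+* F}
  {hf : Geo.IsUnitaryForm σ (hermForm n F q)} {M : Subgroup (GL (Fin n) F)}

theorem frob_add (hF : Fintype.card F = q ^ 2) (x y : F) : (x + y) ^ q = x ^ q + y ^ q :=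
  Unitary.add_pow_q hF x y

theorem card_circ [Fintype (circ F q)] (hF : Fintype.card F = q ^ 2) :
    Fintype.card (circ F q) = q + 1 := by
  rw [← Nat.card_eq_fintype_card, ← Unitary.card_ker_pow hF]
  rfl

theorem coe_prod_circ {ι : Type*} [Fintype ι] (θ : ι → circ F q) :
    ∏ i, ((θ i).1 : F) = (((∏ i, θ i : circ F q)).1 : F) :=
  (map_prod ((Units.coeHom F).comp (circ F q).subtype) θ univ).symm

/-- the numerical condition -/
theorem num_blocks {n t k : ℕ} (hq : 3 ≤ q) (hn : 13 ≤ n) (ht : 2 ≤ t) (htk : t * k = n) :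
    3 * (q ^ 2 * (q + 1)) * (t * (q + 1) ^ (k + 1)) < (q + 1) ^ n := by
  have hk : 1 ≤ k := by
    rcases Nat.eq_zero_or_pos k with rfl | h
    · omega
    · exact h
  have h2k : 2 * k ≤ n := htk ▸ Nat.mul_le_mul_right k ht
  have htn : t ≤ n := htk ▸ Nat.le_mul_of_pos_right t hk
  obtain ⟨m, hm⟩ : ∃ m, n = k + 4 + m := ⟨n - k - 4, by omega⟩
  have key : ∀ m, 3 ≤ m → 6 * (m + 4) < 4 ^ m := by
    intro m hm
    induction m, hm using Nat.le_induction with
    | base => norm_num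
    | succ j hj ih => rw [pow_succ]; omega
  have h3 : 3 * t < (q + 1) ^ m :=
    lt_of_le_of_lt (show 3 * t ≤ 6 * (m + 4) by omega)
      (lt_of_lt_of_le (key m (by omega)) (Nat.pow_le_pow_left (by omega) m))
  calc 3 * (q ^ 2 * (q + 1)) * (t * (q + 1) ^ (k + 1))
      ≤ 3 * ((q + 1) ^ 2 * (q + 1)) * (t * (q + 1) ^ (k + 1)) := by
        gcongr
        omega
    _ = 3 * t * (q + 1) ^ (k + 4) := by ring
    _ < (q + 1) ^ m * (q + 1) ^ (k + 4) := by
        exact Nat.mul_lt_mul_of_lt_of_le h3 le_rfl (by positivity)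
    _ = (q + 1) ^ n := by rw [hm, pow_add _ (k + 4) m, mul_comm]

/-- A full vector gives a vector with a zero meeting two blocks. -/
theorem down_full (hF : Fintype.card F = q ^ 2) (hσ : ∀ x, σ x = x ^ q) (hq : 3 ≤ q) (hn : 13 ≤ n)
    (hM : M ≤ isoGrp (hermForm n F q)) (hph : Phases σ M) {t k : ℕ} (ht : 2 ≤ t) (htk : t * k = n)
    (blk : Fin n → Fin t) (hblk : ∀ B, #(univ.filter fun i => blk i = B) ≤ k) {x : Fin n → F}
    (hxx : hermForm n F q x x = 0) (hU : UtIn hf M x) (hfull : ∀ i, x i ≠ 0) :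
    ∃ y : Fin n → F, hermForm n F q y y = 0 ∧ UtIn hf M y ∧
      ∃ a b e, blk a ≠ blk b ∧ y a ≠ 0 ∧ y b ≠ 0 ∧ y e = 0 := by
  classical
  haveI : Fintype (circ F q) := Fintype.ofFinite _
  have hC := card_circ (q := q) hF
  set e : Fin n := ⟨0, by omega⟩
  set N : Fin n → F := fun i => x i * σ (x i) with hN
  have hN0 : ∀ i, N i ≠ 0 := fun i => mul_ne_zero (hfull i) (by simpa using hfull i)
  obtain ⟨δ, hδ0, hδ, hδe⟩ : ∃ δ : F, δ ≠ 0 ∧ σ δ = -δ ∧ δ ≠ N e := by
    obtain ⟨d, hd0, hd⟩ := exists_skew_ne_zero hf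
    by_cases h : d = N e
    · obtain ⟨c, hc, hc0, hc1⟩ := Unitary.exists_fixed_ne hF hq
      rw [← hσ] at hc
      refine ⟨c * d, mul_ne_zero hc0 hd0, by rw [map_mul, hc, hd, mul_neg], fun h' => hc1 ?_⟩
      rw [← h] at h'
      exact (mul_eq_right₀ hd0).1 h'
    · exact ⟨d, hd0, hd, h⟩
  set a : Fin n → F := fun i => if i = e then N e - δ else N i with ha
  have ha0 : ∀ i, a i ≠ 0 := fun i => by
    simp only [ha]
    split_ifs
    · exact sub_ne_zero.2 (Ne.symm hδe)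
    · exact hN0 i
  set K : Finset (Fin n → circ F q) :=
    univ.biUnion fun B => univ.filter fun θ => ∀ i, blk i ≠ B → θ i = θ e
  have hK : #K ≤ t * (q + 1) ^ (k + 1) := by
    refine card_biUnion_le.trans ((sum_le_card_nsmul _ _ ((q + 1) ^ (k + 1)) fun B _ => ?_).trans
      (by simp))
    let T := ({i // blk i = B} → circ F q) × circ F q
    have hT : Fintype.card T ≤ (q + 1) ^ (k + 1) := by
      rw [Fintype.card_prod, Fintype.card_fun, hC, ← pow_succ, Fintype.card_subtype]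
      exact Nat.pow_le_pow_right (by omega) (Nat.succ_le_succ (hblk B))
    refine le_trans ?_ hT
    refine card_le_card_of_injOn (fun θ => ((fun i => θ i.1, θ e) : T))
      (fun _ _ => mem_univ _) fun θ hθ θ' hθ' h => funext fun i => ?_
    simp only [coe_filter, mem_univ, true_and, Set.mem_ofPred_eq] at hθ hθ'
    rw [Prod.mk.injEq] at h
    by_cases hi : blk i = B
    · exact congrFun h.1 ⟨i, hi⟩
    · rw [hθ i hi, hθ' i hi, h.2]
  obtain ⟨θ, hθK, hθs, hθp⟩ := exists_phases hq (frob_add hF) hF hC (by simpa using hn) a ha0 0 K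
    (lt_of_le_of_lt (Nat.mul_le_mul_left _ hK) (by simpa using num_blocks hq hn ht htk))
  set θ' : Fin n → F := fun i => ((θ i).1 : F) with hθ'
  have hPh : Ph σ θ' := ⟨fun i => by rw [hσ]; exact mem_circ.1 (θ i).2, by
    rw [hθ', coe_prod_circ, hθp]; rfl⟩
  have hθ'e : θ' e * σ (θ' e) = 1 := hPh.1 e
  have hz : δ * θ' e = ∑ i, θ' i * (x i * σ (x i)) := by
    have h1 : ∑ i, a i * θ' i = (∑ i, θ' i * N i) + ∑ i, (if i = e then -δ * θ' i else 0) := by
      rw [← sum_add_distrib]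
      refine sum_congr rfl fun i _ => ?_
      simp only [ha]
      split_ifs with h
      · subst h; ring
      · ring
    rw [show ∑ i, a i * θ' i = 0 from hθs, sum_ite_eq' univ e, if_pos (mem_univ e)] at h1
    linear_combination h1
  obtain ⟨hy, hyy⟩ := step hσ hM hph hxx hU hPh hz
    (mul_ne_zero hδ0 (ne_zero_of_norm hθ'e)) (c := θ' e) (by
      rw [map_mul, hδ]; linear_combination ((0 : F)) * hθ'e)
  refine ⟨_, hyy, hy, ?_⟩
  have hout : ∀ B, ∃ i, blk i ≠ B ∧ θ i ≠ θ e := fun B => by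
    by_contra h
    push Not at h
    exact hθK (mem_biUnion.2 ⟨B, mem_univ _, mem_filter.2 ⟨mem_univ _, h⟩⟩)
  have hne : ∀ i, θ i ≠ θ e → (θ' i - θ' e) * x i ≠ 0 := fun i h =>
    mul_ne_zero (sub_ne_zero.2 fun h' => h (Subtype.ext (Units.ext h'))) (hfull i)
  obtain ⟨p, -, hp⟩ := hout (blk e)
  obtain ⟨r, hr1, hr⟩ := hout (blk p)
  exact ⟨r, p, e, hr1, hne r hr, hne p hp, by simp⟩

end Cfsg.Agent.H63.UDec
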