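import Cfsg.Agent.H63.UDec.OneStart

/-!
Existence of a non-monomial element fixing an axis, and of a transvection.
-/

set_option autoImplicit false

namespace Cfsg.Agent.H63.UDec

open scoped MatrixGroups Matrix
open Finset Matrix Cfsg Cfsg.Agent.H95 Cfsg.Agent.Symplectic

variable {F : Type*} [Field F] [Fintype F] {n q : ℕ} {σ : F ≃+* F} {M : Subgroup (GL (Fin n) F)}

omit [Fintype F] in
theorem single_col {y : GL (Fin n) F} {j : Fin n} {c : F}
    (h : (y : Matrix (Fin n) (Fin n) F) *ᵥ Pi.single j 1 = c • Pi.single j 1) :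
    #(sp ((y : Matrix (Fin n) (Fin n) F) *ᵥ Pi.single j 1)) ≤ 1 := by
  refine (card_le_card (t := {j}) fun m hm => ?_).trans (card_singleton j).le
  rw [mem_sp, h] at hm
  by_contra hmj
  rw [Finset.mem_singleton] at hmj
  exact hm (by simp [hmj])

theorem gOne_of_unit (hf : Geo.IsUnitaryForm σ (hermForm n F q)) (hσ : ∀ x, σ x = x ^ q) (hn : 13 ≤ n)
    (hM : M ≤ isoGrp (hermForm n F q)) (hph : Phases σ M) {y : GL (Fin n) F} (hy : y ∈ M)
    (hfull : ∀ i, n ≤ #(sp (((y⁻¹ : GL (Fin n) F) : Matrix (Fin n) (Fin n) F) *ᵥ Pi.single i 1)) + 1)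
    {j z : Fin n} (hjz : ((y : Matrix (Fin n) (Fin n) F) *ᵥ Pi.single j 1) z = 0) {μ : F}
    (hμ : μ * σ μ = 1) (hμn : μ ^ n ≠ 1) : GOne M := by
  classical
  set w := (y : Matrix (Fin n) (Fin n) F) *ᵥ Pi.single j 1
  obtain ⟨θ, hθ, hθi⟩ := ph_fix (σ := σ) (r := fun _ => μ) (fun _ => hμ) z
  have hθz : θ z * μ ^ (n - 1) = 1 := by
    have := hθ.2
    rw [← mul_prod_erase univ _ (mem_univ z), prod_congr rfl fun m hm => hθi m (mem_erase.1 hm).1,
      prod_const, card_erase_of_mem (mem_univ z), card_univ, Fintype.card_fin] at this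
    exact this
  have hne : θ z - μ ≠ 0 := fun h => hμn (by
    rw [sub_eq_zero.1 h, ← pow_succ', show n - 1 + 1 = n by omega] at hθz
    exact hθz)
  obtain ⟨g, hg, hgx⟩ := hph θ hθ
  set h := y⁻¹ * g * y
  have hh : h ∈ M := M.mul_mem (M.mul_mem (M.inv_mem hy) hg) hy
  set x := ((y⁻¹ : GL (Fin n) F) : Matrix (Fin n) (Fin n) F) *ᵥ Pi.single z 1 with hx
  have hhv : ∀ v, (h : Matrix (Fin n) (Fin n) F) *ᵥ v =
      μ • v + ((θ z - μ) * ((y : Matrix (Fin n) (Fin n) F) *ᵥ v) z) • x := by
    intro v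
    have e : (g : Matrix (Fin n) (Fin n) F) *ᵥ ((y : Matrix (Fin n) (Fin n) F) *ᵥ v) =
        μ • ((y : Matrix (Fin n) (Fin n) F) *ᵥ v) +
          ((θ z - μ) * ((y : Matrix (Fin n) (Fin n) F) *ᵥ v) z) • Pi.single z 1 := by
      funext m
      rw [hgx]
      rcases eq_or_ne m z with rfl | hm
      · simp; ring
      · simp [hθi m hm, hm]
    rw [show (h : Matrix (Fin n) (Fin n) F) *ᵥ v = _ from by rw [mul_mulVec, mul_mulVec], e,
      mulVec_add, mulVec_smul, mulVec_smul, inv_mulVec_mulVec]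
  obtain ⟨i, hi⟩ : ∃ i, i ∈ sp x := card_pos.1 (by have := hfull z; rw [← hx] at this; omega)
  refine ⟨h, hh, not_mon_of (j := i) ?_, j, single_col (c := μ) ?_⟩
  · have hsub : (sp x).erase i ⊆ sp ((h : Matrix (Fin n) (Fin n) F) *ᵥ Pi.single i 1) := by
      intro m hm
      obtain ⟨hmi, hm⟩ := mem_erase.1 hm
      rw [mem_sp, hhv]
      simp only [Pi.add_apply, Pi.smul_apply, Pi.single_eq_of_ne hmi, smul_eq_mul, mul_zero,
        zero_add]
      refine mul_ne_zero (mul_ne_zero hne ?_) (mem_sp.1 hm)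
      have := mem_sp.1 hi
      rw [hx, entry_inv hf hσ (hM hy)] at this
      simpa using this
    refine le_trans ?_ (card_le_card hsub)
    have := hfull z
    rw [← hx] at this
    rw [card_erase_of_mem hi]
    omega
  · rw [hhv, show ((y : Matrix (Fin n) (Fin n) F) *ᵥ Pi.single j 1) z = 0 from hjz, mul_zero,
      zero_smul, add_zero]

theorem gOne_of_swap (hf : Geo.IsUnitaryForm σ (hermForm n F q)) (hσ : ∀ x, σ x = x ^ q)
    (hn : 13 ≤ n) (hM : M ≤ isoGrp (hermForm n F q)) (hS : HasMon (hermForm n F q) M)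
    (h2 : (2 : F) ≠ 0) {y : GL (Fin n) F} (hy : y ∈ M)
    (hfull : ∀ i, n ≤ #(sp (((y⁻¹ : GL (Fin n) F) : Matrix (Fin n) (Fin n) F) *ᵥ Pi.single i 1)) + 1)
    {j z a b : Fin n} (hjz : ((y : Matrix (Fin n) (Fin n) F) *ᵥ Pi.single j 1) z = 0)
    (hab : a ≠ b) (haz : a ≠ z) (hbz : b ≠ z)
    (hb : ((y : Matrix (Fin n) (Fin n) F) *ᵥ Pi.single j 1) b ≠ 0)
    (hN : ((y : Matrix (Fin n) (Fin n) F) *ᵥ Pi.single j 1) a *
        σ (((y : Matrix (Fin n) (Fin n) F) *ᵥ Pi.single j 1) a) =
      ((y : Matrix (Fin n) (Fin n) F) *ᵥ Pi.single j 1) b *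
        σ (((y : Matrix (Fin n) (Fin n) F) *ᵥ Pi.single j 1) b)) :
    GOne M := by
  classical
  set w := (y : Matrix (Fin n) (Fin n) F) *ᵥ Pi.single j 1
  have ha : w a ≠ 0 := fun h => by
    rw [h, zero_mul, eq_comm, mul_eq_zero] at hN
    rcases hN with h' | h' <;> simp_all
  set cc : Fˣ := Units.mk0 (w a / w b) (div_ne_zero ha hb)
  have hcc : (cc : F) * σ cc = 1 := by
    have : σ (w b) ≠ 0 := by simpa using hb
    simp only [cc, Units.val_mk0, map_div₀]
    field_simp
    linear_combination hN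
  set d : Fin n → Fˣ := fun i => if i = a then cc else if i = b then cc⁻¹ else if i = z then -1 else 1
  have hd : ∀ i, (d i : F) * σ (d i) = 1 := fun i => by
    simp only [d]
    split_ifs
    · exact hcc
    · rw [Units.val_inv_eq_inv_val, map_inv₀, ← mul_inv, hcc, inv_one]
    · simp
    · simp
  set π := mp (Equiv.swap a b) d
  have hπi : π ∈ isoGrp (hermForm n F q) := mp_iso hf hσ _ hd
  have hπ : π ∈ M := hS π ⟨hπi, by
    show π ∈ Geo.specialLinear (Fin n) F
    rw [mem_specialLinear_iff, mp_det, Equiv.Perm.sign_swap hab,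
      ← prod_subset (subset_univ ({a, b, z} : Finset (Fin n))) (fun i _ hi => by
        simp only [mem_insert, Finset.mem_singleton, not_or] at hi
        simp [d, hi.1, hi.2.1, hi.2.2]), prod_insert (by simp [hab, haz]),
      prod_insert (by simp [hbz]), prod_singleton]
    simp [d, hab.symm, haz.symm, hbz.symm]⟩ (mp_mon _ _)
  have hπv : ∀ v m, ((π : Matrix (Fin n) (Fin n) F) *ᵥ v) m = (d m : F) * v (Equiv.swap a b m) :=
    fun v m => mp_apply _ _ _ _
  set h := y⁻¹ * π * y
  have hh : h ∈ M := M.mul_mem (M.mul_mem (M.inv_mem hy) hπ) hy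
  set Yi := ((y⁻¹ : GL (Fin n) F) : Matrix (Fin n) (Fin n) F)
  set p : Fin n → F := Yi *ᵥ (Pi.single a 1 - ((cc⁻¹ : Fˣ) : F) • Pi.single b 1)
  set x := Yi *ᵥ Pi.single z 1
  have hhv : ∀ v, (h : Matrix (Fin n) (Fin n) F) *ᵥ v - v =
      ((cc : F) * ((y : Matrix (Fin n) (Fin n) F) *ᵥ v) b - ((y : Matrix (Fin n) (Fin n) F) *ᵥ v) a) • p +
        (-2 * ((y : Matrix (Fin n) (Fin n) F) *ᵥ v) z) • x := by
    intro v
    set u := (y : Matrix (Fin n) (Fin n) F) *ᵥ v
    have e : (π : Matrix (Fin n) (Fin n) F) *ᵥ u = u +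
        (((cc : F) * u b - u a) • (Pi.single a 1 - ((cc⁻¹ : Fˣ) : F) • Pi.single b 1) +
          (-2 * u z) • Pi.single z 1) := by
      funext m
      rw [hπv]
      rcases eq_or_ne m a with rfl | h1
      · simp [d, hab, haz]
      rcases eq_or_ne m b with rfl | h2'
      · simp [d, hab.symm, hbz]
        field_simp
        ring
      rw [Equiv.swap_apply_of_ne_of_ne h1 h2']
      rcases eq_or_ne m z with rfl | h3
      · simp [d, h1, h2']
        ring
      · simp [d, h1, h2', h3]
    rw [show (h : Matrix (Fin n) (Fin n) F) *ᵥ v = _ from by rw [mul_mulVec, mul_mulVec], e,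
      mulVec_add, mulVec_add, mulVec_smul, mulVec_smul, inv_mulVec_mulVec, add_sub_cancel_left]
  refine ⟨h, hh, fun hm => ?_, j, single_col (c := 1) ?_⟩
  · -- the axis would be spanned by at most four coordinates
    set bv : Fin n → Fin n → F := fun i =>
      (h : Matrix (Fin n) (Fin n) F) *ᵥ Pi.single i 1 - Pi.single i 1
    have hbv : ∀ i, #(sp (bv i)) ≤ 2 := fun i => by
      refine (card_le_card (t := insert i (sp ((h : Matrix (Fin n) (Fin n) F) *ᵥ Pi.single i 1)))
        fun m hm' => ?_).trans ((card_insert_le _ _).trans (by have := hm i; omega))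
      rw [Finset.mem_insert, mem_sp]
      rcases eq_or_ne m i with rfl | hmi
      · exact Or.inl rfl
      · exact Or.inr (by simpa [bv, mem_sp, hmi] using hm')
    have hxbv : x ∈ Submodule.span F (Set.range bv) := by
      have e : (h : Matrix (Fin n) (Fin n) F) *ᵥ x - x = (-2 : F) • x := by
        rw [hhv, show (y : Matrix (Fin n) (Fin n) F) *ᵥ x = Pi.single z 1 from mulVec_inv_mulVec y _]
        simp [haz, hbz]
      have e2 : (h : Matrix (Fin n) (Fin n) F) *ᵥ x - x = ∑ i, x i • bv i := by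
        simp only [bv, smul_sub, sum_sub_distrib, ← mulVec_smul, ← mulVec_sum]
        rw [← pi_eq_sum_univ' x]
      have hm2 : ((-2 : F) • x) ∈ Submodule.span F (Set.range bv) := by
        rw [← e, e2]
        exact Submodule.sum_mem _ fun i _ => Submodule.smul_mem _ _ (Submodule.subset_span ⟨i, rfl⟩)
      exact (Submodule.smul_mem_iff _ (neg_ne_zero.2 h2)).1 hm2
    have hR : ∀ i, bv i ∈ Submodule.span F ({p, x} : Set (Fin n → F)) := fun i => by
      rw [show bv i = _ from hhv _]
      exact Submodule.add_mem _ (Submodule.smul_mem _ _ (Submodule.subset_span (Or.inl rfl)))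
        (Submodule.smul_mem _ _ (Submodule.subset_span (Or.inr rfl)))
    obtain ⟨i0, i1, hx01⟩ : ∃ i0 i1, x ∈ Submodule.span F ({bv i0, bv i1} : Set (Fin n → F)) := by
      by_cases hdep : ∀ i, bv i = 0
      · refine ⟨z, z, ?_⟩
        have : x = 0 := by
          have hb0 : Submodule.span F (Set.range bv) = ⊥ := Submodule.span_eq_bot.2 (by
            rintro _ ⟨i, rfl⟩
            exact hdep i)
          rw [hb0] at hxbv
          exact (Submodule.mem_bot F).1 hxbv
        rw [this]
        exact Submodule.zero_mem _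
      push Not at hdep
      obtain ⟨i0, hi0⟩ := hdep
      by_cases hone : ∀ i, bv i ∈ Submodule.span F ({bv i0} : Set (Fin n → F))
      · refine ⟨i0, i0, ?_⟩
        rw [Set.pair_eq_singleton]
        exact Submodule.span_le.2 (by rintro _ ⟨i, rfl⟩; exact hone i) hxbv
      push Not at hone
      obtain ⟨i1, hi1⟩ := hone
      refine ⟨i0, i1, ?_⟩
      have hli : LinearIndependent F ![bv i0, bv i1] := by
        rw [LinearIndependent.pair_iff' hi0]
        intro c hc
        exact hi1 (Submodule.mem_span_singleton.2 ⟨c, hc⟩)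
      have hle : Submodule.span F ({bv i0, bv i1} : Set (Fin n → F)) ≤
          Submodule.span F ({p, x} : Set (Fin n → F)) :=
        Submodule.span_le.2 (Set.pair_subset (hR i0) (hR i1))
      have h2' : Module.finrank F (Submodule.span F ({p, x} : Set (Fin n → F))) ≤ 2 := by
        have := finrank_span_finset_le_card (R := F) ({p, x} : Finset (Fin n → F))
        rw [Finset.coe_insert, Finset.coe_singleton] at this
        exact this.trans Finset.card_le_two
      have heq := Submodule.eq_of_le_of_finrank_le hle (by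
        rw [Unitary.finrank_pair hli]; exact h2')
      rw [heq]
      exact Submodule.subset_span (Or.inr rfl)
    obtain ⟨c0, c1, hcc'⟩ := Submodule.mem_span_pair.1 hx01
    have hle : #(sp x) ≤ 4 := by
      refine (card_le_card (t := sp (bv i0) ∪ sp (bv i1)) fun m hm' => ?_).trans
        ((card_union_le _ _).trans (by have := hbv i0; have := hbv i1; omega))
      rw [Finset.mem_union, mem_sp, mem_sp]
      rw [mem_sp, ← hcc'] at hm'
      by_contra hcon
      rw [not_or, not_not, not_not] at hcon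
      exact hm' (by simp [hcon.1, hcon.2])
    have : n ≤ #(sp x) + 1 := hfull z
    omega
  · have e := hhv (Pi.single j 1)
    rw [show ((y : Matrix (Fin n) (Fin n) F) *ᵥ Pi.single j 1) = w from rfl, hjz, mul_zero, zero_smul,
      add_zero, show (cc : F) * w b - w a = 0 by
        simp only [cc, Units.val_mk0]; rw [div_mul_cancel₀ _ hb, sub_self], zero_smul, sub_eq_zero] at e
    rw [e, one_smul]

theorem gOne_odd (hf : Geo.IsUnitaryForm σ (hermForm n F q)) (hF : Fintype.card F = q ^ 2)
    (hσ : ∀ x, σ x = x ^ q) (hq : 3 ≤ q) (hn : 13 ≤ n) (hM : M ≤ isoGrp (hermForm n F q))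
    (hph : Phases σ M) (hS : HasMon (hermForm n F q) M) (h2 : (2 : F) ≠ 0) {g : GL (Fin n) F}
    (hg : g ∈ M) (hg' : ¬ Mon g) : GOne M := by
  classical
  by_contra hno
  obtain ⟨y, hy, hy', j, z, hjz⟩ := exists_zero hf hF hσ hq hn hM hph hno hg hg'
  have hfull := fun y (hy : y ∈ M) (hy' : ¬ Mon y) => no_two hf hF hσ hq hn hM hph hno hy hy'
  have hyi := hfull y⁻¹ (M.inv_mem hy) fun h => hy' (mon_inv hf hσ (hM hy) h)
  by_cases hμ : ∃ μ : F, μ * σ μ = 1 ∧ μ ^ n ≠ 1
  · obtain ⟨μ, hμ, hμn⟩ := hμ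
    exact hno (gOne_of_unit hf hσ hn hM hph hy hyi hjz hμ hμn)
  push Not at hμ
  have hqn : q + 1 ≤ n := by
    rw [← card_cs hF hσ]
    refine (card_le_card (t := (Polynomial.nthRoots n (1 : F)).toFinset) fun μ hm => ?_).trans
      ((Multiset.toFinset_card_le _).trans (Polynomial.card_nthRoots n 1))
    rw [Multiset.mem_toFinset, Polynomial.mem_nthRoots (by omega)]
    exact hμ μ (mem_cs.1 hm)
  set w := (y : Matrix (Fin n) (Fin n) F) *ᵥ Pi.single j 1
  have hsp : ∀ i, i ≠ z → w i ≠ 0 := by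
    intro i hi h0
    have hcard : n ≤ #(sp w) + 1 := hfull y hy hy' j
    have hsub : sp w ⊆ univ \ {i, z} := fun m hm => by
      rw [Finset.mem_sdiff]
      refine ⟨mem_univ _, fun h => ?_⟩
      simp only [mem_insert, Finset.mem_singleton] at h
      rcases h with rfl | rfl
      · exact mem_sp.1 hm h0
      · exact mem_sp.1 hm hjz
    have := card_le_card hsub
    rw [card_sdiff_of_subset (subset_univ _), card_univ, Fintype.card_fin, card_pair hi] at this
    omega
  obtain ⟨a, ha, b, hb, hab, he⟩ := exists_ne_map_eq_of_card_lt_of_maps_to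
    (s := univ.erase z) (t := (fx σ).erase 0) (f := fun i => w i * σ (w i))
    (by rw [card_erase_of_mem (mem_univ z), card_univ, Fintype.card_fin,
      card_erase_of_mem (mem_fx.2 (map_zero σ)), card_fx hF hσ]; omega)
    (fun i hi => by
      have h0 := hsp i (mem_erase.1 hi).1
      exact mem_erase.2 ⟨mul_ne_zero h0 (by simpa using h0), mem_fx.2 (by
        rw [map_mul, u_inv hf, mul_comm])⟩)
  exact hno (gOne_of_swap hf hσ hn hM hS h2 hy hyi hjz hab (mem_erase.1 ha).1 (mem_erase.1 hb).1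
    (hsp b (mem_erase.1 hb).1) he)

/-- the numerical condition for two exceptional coordinates -/
theorem num_two {n q : ℕ} (hq : 4 ≤ q) (hn : 13 ≤ n) :
    3 * (q ^ 2 * (q + 1)) * (n * n * (q + 1) ^ 3) < (q + 1) ^ (n - 1) := by
  obtain ⟨m, hm⟩ : ∃ m, n - 1 = 6 + m := ⟨n - 7, by omega⟩
  have key : ∀ m, 6 ≤ m → 3 * ((m + 7) * (m + 7)) < 5 ^ m := by
    intro m hm
    induction m, hm using Nat.le_induction with
    | base => norm_num
    | succ i hi ih => rw [pow_succ]; nlinarith
  have h3 : 3 * (n * n) < (q + 1) ^ m := by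
    refine lt_of_le_of_lt ?_ (lt_of_lt_of_le (key m (by omega)) (Nat.pow_le_pow_left (by omega) m))
    rw [show n = m + 7 by omega]
  rw [hm, pow_add]
  calc 3 * (q ^ 2 * (q + 1)) * (n * n * (q + 1) ^ 3)
      ≤ 3 * ((q + 1) ^ 2 * (q + 1)) * (n * n * (q + 1) ^ 3) := by gcongr; omega
    _ = (q + 1) ^ 6 * (3 * (n * n)) := by ring
    _ < _ := by gcongr

theorem gOne_of_ut (hf : Geo.IsUnitaryForm σ (hermForm n F q)) (hσ : ∀ x, σ x = x ^ q)
    {x : Fin n → F} (hxx : hermForm n F q x x = 0) (hU : ut hf x 1 ∈ M) {z : Fin n} (hz : x z = 0)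
    (h3 : 3 ≤ #(sp x)) : GOne M := by
  classical
  obtain ⟨i, hi⟩ := card_pos.1 (show 0 < #(sp x) by omega)
  refine ⟨_, hU, not_mon_of (j := i) ?_, z, single_col (c := 1) ?_⟩
  · have hsub : (sp x).erase i ⊆ sp ((ut hf x 1 : Matrix (Fin n) (Fin n) F) *ᵥ Pi.single i 1) := by
      intro m hm
      obtain ⟨hmi, hm⟩ := mem_erase.1 hm
      rw [mem_sp, ut_mulVec hf hxx, ← u_conj hf x, herm_single_right' hσ]
      simp only [Pi.add_apply, Pi.smul_apply, Pi.single_eq_of_ne hmi, smul_eq_mul, zero_add, one_mul]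
      exact mul_ne_zero (by simpa using mem_sp.1 hi) (mem_sp.1 hm)
    refine le_trans ?_ (card_le_card hsub)
    rw [card_erase_of_mem hi]
    omega
  · rw [ut_mulVec hf hxx, ← u_conj hf x, herm_single_right' hσ, hz, map_zero]
    simp

theorem gOne_even (hf : Geo.IsUnitaryForm σ (hermForm n F q)) (hF : Fintype.card F = q ^ 2)
    (hσ : ∀ x, σ x = x ^ q) (hq : 4 ≤ q) (hn : 13 ≤ n) (hM : M ≤ isoGrp (hermForm n F q))
    (hph : Phases σ M) (hS : HasMon (hermForm n F q) M) (h2 : (2 : F) = 0) {g : GL (Fin n) F}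
    (hg : g ∈ M) (hg' : ¬ Mon g) : GOne M := by
  classical
  by_contra hno
  have hcol := no_two hf hF hσ (by omega) hn hM hph hno hg hg'
  set a : Fin n := ⟨0, by omega⟩
  set b : Fin n := ⟨1, by omega⟩
  have hab : a ≠ b := by simp [a, b]
  have hone : σ (1 : F) = -1 := by rw [map_one]; linear_combination h2
  -- a transposition
  have htr : ∀ θ : F, θ * σ θ = 1 →
      hermForm n F q (Pi.single a 1 + θ • Pi.single b 1) (Pi.single a 1 + θ • Pi.single b 1) = 0 ∧
      ut hf (Pi.single a 1 + θ • Pi.single b 1) 1 ∈ M := by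
    intro θ hθ
    set v : Fin n → F := Pi.single a 1 + θ • Pi.single b 1
    have hv : ∀ i, i ≠ a → i ≠ b → v i = 0 := fun i h1 h2 => by simp [v, h1, h2]
    have hva : v a = 1 := by simp [v, hab]
    have hvb : v b = θ := by simp [v, hab.symm]
    have hvv : hermForm n F q v v = 0 := by
      rw [norm_two hσ hab hv, hva, hvb, map_one, hθ]; linear_combination h2
    refine ⟨hvv, hS _ ⟨ut_mem_iso hf hvv hone, ut_mem_sl hf v 1⟩ fun i => ?_⟩
    have e : ∀ m, ((ut hf v 1 : Matrix (Fin n) (Fin n) F) *ᵥ Pi.single i 1) m =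
        (Pi.single i 1 : Fin n → F) m + σ (v i) * v m := fun m => by
      rw [ut_mulVec hf hvv, ← u_conj hf v, herm_single_right' hσ]; simp
    refine card_le_one.2 fun m hm m' hm' => ?_
    rw [mem_sp, e] at hm hm'
    rcases eq_or_ne i a with rfl | hia
    · have : ∀ m, (Pi.single a 1 : Fin n → F) m + σ (v a) * v m ≠ 0 → m = b := fun m hm => by
        by_contra hmb
        apply hm
        rcases eq_or_ne m a with rfl | hma
        · rw [hva]; simp; linear_combination h2
        · simp [hv m hma hmb, hma]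
      rw [this m hm, this m' hm']
    rcases eq_or_ne i b with rfl | hib
    · have : ∀ m, (Pi.single b 1 : Fin n → F) m + σ (v b) * v m ≠ 0 → m = a := fun m hm => by
        by_contra hma
        apply hm
        rcases eq_or_ne m b with rfl | hmb
        · rw [hvb, Pi.single_eq_same]; linear_combination hθ + h2
        · simp [hv m hma hmb, hmb]
      rw [this m hm, this m' hm']
    · simp only [hv i hia hib, map_zero, zero_mul, add_zero, ne_eq] at hm hm'
      rw [Pi.single_apply, ite_eq_right_iff, Classical.not_imp] at hm hm'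
      rw [hm.1, hm'.1]
  set col := fun c => (g : Matrix (Fin n) (Fin n) F) *ᵥ Pi.single c 1
  obtain ⟨x, hxx, hxU, hx3⟩ : ∃ x : Fin n → F, hermForm n F q x x = 0 ∧ ut hf x 1 ∈ M ∧ 3 ≤ #(sp x) := by
    by_contra hcon
    push Not at hcon
    have hsmall : ∀ θ, θ * σ θ = 1 → #(sp (col a + θ • col b)) ≤ 2 := by
      intro θ hθ
      obtain ⟨hvv, hmem⟩ := htr θ hθ
      set v : Fin n → F := Pi.single a 1 + θ • Pi.single b 1
      have e : col a + θ • col b = (g : Matrix (Fin n) (Fin n) F) *ᵥ v := by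
        simp only [v, col, mulVec_add, mulVec_smul]
      rw [e]
      have := hcon _ (by rw [mem_isoGrp.1 (hM hg)]; exact hvv)
        (conj_ut hf (hM hg) hvv 1 ▸ M.mul_mem (M.mul_mem hg hmem) (M.inv_mem hg))
      omega
    obtain ⟨t, ht, ht1⟩ := exists_mem_ne (a := (1 : F)) (s := cs σ) (by rw [card_cs hF hσ]; omega)
    have hsub : sp (col b) ⊆ sp (col a + (1 : F) • col b) ∪ sp (col a + t • col b) := by
      intro m hm
      by_contra hc
      rw [Finset.mem_union, not_or, notMem_sp, notMem_sp] at hc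
      simp only [Pi.add_apply, Pi.smul_apply, smul_eq_mul] at hc
      refine mem_sp.1 hm ((mul_eq_zero.1 (show (t - 1) * col b m = 0 by
        linear_combination hc.2 - hc.1)).resolve_left (sub_ne_zero.2 ht1))
    have := (card_le_card hsub).trans (card_union_le _ _)
    have := hsmall 1 (by simp)
    have := hsmall t (mem_cs.1 ht)
    have : n ≤ #(sp (col b)) + 1 := hcol b
    omega
  by_cases hzero : ∃ z, x z = 0
  · obtain ⟨z, hz⟩ := hzero
    exact hno (gOne_of_ut hf hσ hxx hxU hz hx3)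
  push Not at hzero
  set N : Fin n → F := fun i => x i * σ (x i)
  have hN0 : ∀ i, N i ≠ 0 := fun i => mul_ne_zero (hzero i) (by simpa using hzero i)
  haveI : Fintype (circ F q) := Fintype.ofFinite _
  have hC := card_circ (q := q) hF
  let K : Fin n → Finset (Fin n → circ F q) := fun k =>
    (univ : Finset (Fin n × Fin n)).biUnion fun pr =>
      univ.filter fun θ => ∀ i, i ≠ pr.1 → i ≠ pr.2 → θ i = θ k
  have hK : ∀ k, #(K k) ≤ n * n * (q + 1) ^ 3 := by
    intro k
    refine card_biUnion_le.trans ((sum_le_card_nsmul _ _ ((q + 1) ^ 3) fun pr _ => ?_).trans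
      (le_of_eq (by simp [Fintype.card_prod])))
    have hT : Fintype.card (circ F q × circ F q × circ F q) = (q + 1) ^ 3 := by
      simp [Fintype.card_prod, hC]; ring
    rw [← hT, ← Finset.card_univ]
    refine card_le_card_of_injOn (fun θ => (θ pr.1, θ pr.2, θ k)) (fun _ _ => mem_univ _)
      fun θ hθ θ' hθ' h => funext fun i => ?_
    simp only [coe_filter, mem_univ, true_and, Set.mem_ofPred_eq] at hθ hθ'
    simp only [Prod.mk.injEq] at h
    rcases eq_or_ne i pr.1 with rfl | h1
    · exact h.1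
    rcases eq_or_ne i pr.2 with rfl | h2
    · exact h.2.1
    rw [hθ i h1 h2, hθ' i h1 h2, h.2.2]
  obtain ⟨θ, k, hθK, hθs, hθp⟩ : ∃ (θ : Fin n → circ F q) (k : Fin n), θ ∉ K k ∧
      ∑ i, N i * ((θ i).1 : F) = ((θ k).1 : F) ∧ ∏ i, θ i = 1 := by
    by_cases hk : ∃ k, N k ≠ 1
    · obtain ⟨k, hk⟩ := hk
      set w : Fin n → F := fun i => if i = k then N k - 1 else N i
      have hw : ∀ i, w i ≠ 0 := fun i => by
        simp only [w]; split_ifs
        · exact sub_ne_zero.2 hk
        · exact hN0 i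
      obtain ⟨θ, hθK, hθs, hθp⟩ := exists_phases (by omega) (frob_add hF) hF hC (by simpa using hn)
        w hw 0 (K k) (lt_of_le_of_lt (Nat.mul_le_mul_left _ (hK k))
          (lt_of_lt_of_le (num_two hq hn) (by
            rw [Fintype.card_fin]; exact Nat.pow_le_pow_right (by omega) (by omega))))
      refine ⟨θ, k, hθK, ?_, hθp⟩
      have e : ∑ i, N i * ((θ i).1 : F) = ∑ i, w i * ((θ i).1 : F) +
          ∑ i, (if i = k then ((θ i).1 : F) else 0) := by
        rw [← sum_add_distrib]
        refine sum_congr rfl fun i _ => ?_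
        simp only [w]
        split_ifs with h
        · subst h; ring
        · ring
      rw [e, hθs, zero_add, sum_ite_eq' univ k, if_pos (mem_univ k)]
    · push Not at hk
      have hn14 : 14 ≤ n := by
        rcases eq_or_lt_of_le hn with h | h
        · exfalso
          rw [herm_sum hσ, sum_congr rfl (fun i _ => hk i), sum_const, card_univ, Fintype.card_fin,
            ← h, nsmul_eq_mul, mul_one] at hxx
          push_cast at hxx
          exact one_ne_zero (α := F) (by linear_combination hxx - 6 * h2)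
        · omega
      set k : Fin n := ⟨0, by omega⟩
      let ι := {i : Fin n // i ≠ k}
      have hι : Fintype.card ι = n - 1 := by
        simp [ι, Fintype.card_subtype_compl]
      let ext' : (ι → circ F q) → Fin n → circ F q := fun θ i =>
        if h : i = k then 1 else θ ⟨i, h⟩
      have hinj : Function.Injective ext' := fun θ θ' h => funext fun i => by
        have := congrFun h i.1
        simpa [ext', i.2] using this
      obtain ⟨θ, hθK, hθs, hθp⟩ := exists_phases (ι := ι) (by omega) (frob_add hF) hF hC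
        (by omega) (fun _ => 1) (fun _ => one_ne_zero) 0
        ((K k).preimage ext' hinj.injOn) (by
          refine lt_of_le_of_lt (Nat.mul_le_mul_left _ (le_trans ?_ (hK k)))
            (by rw [hι]; exact num_two hq hn)
          exact card_le_card_of_injOn ext' (fun θ hθ => Finset.mem_preimage.1 hθ) hinj.injOn)
      refine ⟨ext' θ, k, fun h => hθK (Finset.mem_preimage.2 h), ?_, ?_⟩
      · rw [← add_sum_erase _ _ (mem_univ k), hk k, one_mul, add_eq_left]
        rw [← hθs, sum_subtype (univ.erase k) (p := fun i => i ≠ k) (by simp)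
          (fun i => N i * (((ext' θ) i).1 : F))]
        exact sum_congr rfl fun i _ => by simp [ext', i.2, hk i.1]
      · rw [← mul_prod_erase univ _ (mem_univ k), show ext' θ k = 1 by simp [ext'], one_mul, ← hθp,
          prod_subtype (univ.erase k) (p := fun i => i ≠ k) (by simp) (ext' θ)]
        exact prod_congr rfl fun i _ => by simp [ext', i.2]
  obtain ⟨t, ht, htx⟩ := hph (fun i => ((θ i).1 : F))
    ⟨fun i => by rw [hσ]; exact mem_circ.1 (θ i).2, by rw [coe_prod_circ, hθp]; rfl⟩
  set x' := (t : Matrix (Fin n) (Fin n) F) *ᵥ x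
  have hxx' : hermForm n F q x' x' = 0 := by
    simp only [x']; rw [mem_isoGrp.1 (hM ht), hxx]
  have hx'U : ut hf x' 1 ∈ M := conj_ut hf (hM ht) hxx 1 ▸ M.mul_mem (M.mul_mem ht hxU) (M.inv_mem ht)
  set x'' := (ut hf x 1 : Matrix (Fin n) (Fin n) F) *ᵥ x'
  have hx'' : hermForm n F q x'' x'' = 0 := by
    simp only [x'']; rw [mem_isoGrp.1 (hM hxU), hxx']
  have hx''U : ut hf x'' 1 ∈ M :=
    conj_ut hf (hM hxU) hxx' 1 ▸ M.mul_mem (M.mul_mem hxU hx'U) (M.inv_mem hxU)
  have hfx : hermForm n F q x' x = ((θ k).1 : F) := by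
    rw [herm_sum hσ, ← hθs]
    exact sum_congr rfl fun i _ => by simp only [x', htx, N]; ring
  have hx''i : ∀ i, x'' i = (((θ i).1 : F) - ((θ k).1 : F)) * x i := fun i => by
    simp only [x'', ut_mulVec hf hxx, hfx, one_mul, Pi.add_apply, Pi.smul_apply, smul_eq_mul,
      show x' i = ((θ i).1 : F) * x i from htx x i]
    linear_combination (((θ k).1 : F) * x i) * h2
  refine hno (gOne_of_ut hf hσ hx'' hx''U (z := k) (by rw [hx''i, sub_self, zero_mul]) ?_)
  by_contra h
  obtain ⟨p, r, hpr⟩ : ∃ p r, sp x'' ⊆ {p, r} := by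
    rcases Nat.lt_or_ge #(sp x'') 2 with h' | h'
    · rcases (sp x'').eq_empty_or_nonempty with e | ⟨p, hp⟩
      · exact ⟨k, k, by simp [e]⟩
      · exact ⟨p, p, fun i hi => by simp [card_le_one.1 (by omega) i hi p hp]⟩
    · obtain ⟨p, r, -, hpr⟩ := card_eq_two.1 (show #(sp x'') = 2 by omega)
      exact ⟨p, r, hpr.le⟩
  refine hθK (mem_biUnion.2 ⟨(p, r), mem_univ _, mem_filter.2 ⟨mem_univ _, fun i h1 h2 => ?_⟩⟩)
  have : x'' i = 0 := notMem_sp.1 fun h => by
    have := hpr h
    simp [h1, h2] at this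
  rw [hx''i] at this
  exact Subtype.ext (Units.ext (sub_eq_zero.1 ((mul_eq_zero.1 this).resolve_right (hzero i))))

/-- A non-monomial element gives a transvection. -/
theorem exists_utIn (hf : Geo.IsUnitaryForm σ (hermForm n F q)) (hF : Fintype.card F = q ^ 2)
    (hσ : ∀ x, σ x = x ^ q) (hq : 3 ≤ q) (hn : 13 ≤ n) (hM : M ≤ isoGrp (hermForm n F q))
    (hph : Phases σ M) (hS : HasMon (hermForm n F q) M) {g : GL (Fin n) F} (hg : g ∈ M)
    (hg' : ¬ Mon g) : ∃ r : Fin n → F, r ≠ 0 ∧ hermForm n F q r r = 0 ∧ UtIn hf M r := by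
  have h1 : GOne M := by
    by_cases h2 : (2 : F) = 0
    · refine gOne_even hf hF hσ ?_ hn hM hph hS h2 hg hg'
      by_contra h
      have : q = 3 := by omega
      subst this
      have h3 : (3 : F) = 0 := by simpa using Unitary.natCast_q_eq_zero hF
      exact one_ne_zero (α := F) (by linear_combination h3 - h2)
    · exact gOne_odd hf hF hσ hq hn hM hph hS h2 hg hg'
  obtain ⟨u, z, huz, huu, hu2, hR⟩ := refl_of_gOne hσ hM hph hf h1
  obtain ⟨u, a, b, c, z, hab, hac, hbc, ha, hb, hc, huz, huu, hR⟩ :=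
    refl_three hF hq hσ (by omega) hS hf huz huu hu2 hR
  exact utIn_of_refl hF hq hσ hph hM hab hac hbc ha hb hc huz huu hR

end Cfsg.Agent.H63.UDec
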