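import Cfsg.Agent.H63.UDec.Basic

/-!
The field with four elements.
-/

set_option autoImplicit false

namespace Cfsg.Agent.H63.UDec

open scoped MatrixGroups Matrix
open Finset Matrix Cfsg Cfsg.Agent.H95 Cfsg.Agent.Symplectic

variable {F : Type*} [Field F] [Fintype F] {n q : ℕ} {σ : F ≃+* F}
  {hf : Geo.IsUnitaryForm σ (hermForm n F q)} {M : Subgroup (GL (Fin n) F)}

/-- facts about the field with four elements -/
theorem four (hF : Fintype.card F = q ^ 2) (hq : q = 2) (hσ : ∀ x, σ x = x ^ q) :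
    (2 : F) = 0 ∧ (∀ x : F, x ≠ 0 → x * σ x = 1) ∧
      ∃ ω : F, ω * ω + ω + 1 = 0 ∧ ω ≠ 0 ∧ ω ≠ 1 ∧ σ ω = ω * ω := by
  subst hq
  have h2 : (2 : F) = 0 := by simpa using Unitary.natCast_q_eq_zero hF
  have hcube : ∀ x : F, x ≠ 0 → x ^ 3 = 1 := fun x hx => by
    have := FiniteField.pow_card_sub_one_eq_one x hx
    rwa [hF] at this
  refine ⟨h2, fun x hx => by rw [hσ, ← hcube x hx]; ring, ?_⟩
  classical
  obtain ⟨ω, -, hω⟩ := exists_mem_notMem_of_card_lt_card (s := ({0, 1} : Finset F)) (t := univ)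
    (by rw [card_univ, hF]; exact lt_of_le_of_lt card_le_two (by norm_num))
  simp only [mem_insert, Finset.mem_singleton, not_or] at hω
  refine ⟨ω, ?_, hω.1, hω.2, by rw [hσ, pow_two]⟩
  have : (ω - 1) * (ω * ω + ω + 1) = 0 := by linear_combination hcube ω hω.1
  exact (mul_eq_zero.1 this).resolve_left (sub_ne_zero.2 hω.2)

variable (hF : Fintype.card F = q ^ 2) (hq : q = 2) (hσ : ∀ x, σ x = x ^ q)

include hF hq hσ

omit hq in
theorem skew_one (h2 : (2 : F) = 0) : σ (1 : F) = -1 := by
  rw [map_one]; linear_combination h2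

theorem even_sp {x : Fin n → F} (hxx : hermForm n F q x x = 0) : Even #(sp x) := by
  classical
  obtain ⟨h2, nz, -⟩ := four hF hq hσ
  rw [herm_sum hσ] at hxx
  have e : ∀ i, x i * σ (x i) = if x i ≠ 0 then 1 else 0 := fun i => by
    split_ifs with h
    · exact nz _ h
    · rw [not_not] at h; simp [h]
  simp only [e, sum_boole] at hxx
  haveI : CharP F 2 := CharTwo.of_one_ne_zero_of_two_eq_zero one_ne_zero h2
  rw [even_iff_two_dvd, ← CharP.cast_eq_zero_iff F 2]
  convert hxx using 3
  exact Finset.ext fun i => by simp [mem_sp]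

variable (hM : M ≤ isoGrp (hermForm n F q)) (hph : Phases σ M)

include hM hph

/-- Removing an even set of coordinates. -/
theorem remove {x : Fin n → F} (hxx : hermForm n F q x x = 0) (hU : UtIn hf M x)
    {P Q : Fin n} {A U : Finset (Fin n)} (hP : P ∈ sp x) (hQ : Q ∈ sp x) (hPQ : P ≠ Q)
    (hA : A ∩ sp x = {P}) (hUs : U ⊆ sp x) (hAU : Disjoint A U) (hQU : Q ∉ U)
    (hUe : Even #U) (hcard : 2 * #A + #U = 6) :
    ∃ y : Fin n → F, hermForm n F q y y = 0 ∧ UtIn hf M y ∧ sp y = sp x \ U := by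
  classical
  obtain ⟨h2, nz, ω, hω, hω0, hω1, hσω⟩ := four hF hq hσ
  have hω3 : ω ^ 3 = 1 := by linear_combination (ω - 1) * hω
  set θ : Fin n → F := fun i => if i ∈ A then ω * ω else if i ∈ U then ω else 1 with hθdef
  have hθ : Ph σ θ := by
    refine ⟨fun i => nz _ ?_, ?_⟩
    · simp only [hθdef]
      split_ifs
      · exact mul_ne_zero hω0 hω0
      · exact hω0
      · exact one_ne_zero
    · rw [← prod_subset (subset_univ (A ∪ U)) (fun i _ hi => by
        rw [Finset.mem_union, not_or] at hi; simp [hθdef, hi.1, hi.2]), prod_union hAU,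
        prod_congr rfl (fun i (hi : i ∈ A) => show θ i = ω * ω by simp [hθdef, hi]),
        prod_congr rfl (fun i (hi : i ∈ U) => show θ i = ω by
          simp [hθdef, hi, Finset.disjoint_right.1 hAU hi]), prod_const, prod_const]
      calc (ω * ω) ^ #A * ω ^ #U = ω ^ (2 * #A + #U) := by rw [pow_add, pow_mul, pow_two]
        _ = _ := by rw [hcard, show (6 : ℕ) = 3 * 2 from rfl, pow_mul, hω3, one_pow]
  have hAs : ∀ i ∈ sp x, i ∈ A → i = P := fun i hi hiA => by
    have : i ∈ A ∩ sp x := mem_inter.2 ⟨hiA, hi⟩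
    rwa [hA, Finset.mem_singleton] at this
  have hPA : P ∈ A := (mem_inter.1 (hA.symm ▸ Finset.mem_singleton_self P : P ∈ A ∩ sp x)).1
  have hPU : P ∉ U := Finset.disjoint_left.1 hAU hPA
  have hz : ω = ∑ i, θ i * (x i * σ (x i)) := by
    have e0 : ∑ i, x i * σ (x i) = 0 := by rw [← herm_sum hσ, hxx]
    rw [← sub_zero (∑ i, θ i * _), ← e0, ← sum_sub_distrib,
      ← sum_subset (subset_univ (insert P U)) (fun i _ hi => ?_), sum_insert hPU,
      sum_congr rfl (fun i (hi : i ∈ U) => show θ i * (x i * σ (x i)) - x i * σ (x i) = ω - 1 by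
        rw [nz _ (mem_sp.1 (hUs hi)), show θ i = ω by
          simp [hθdef, hi, Finset.disjoint_right.1 hAU hi]]; ring),
      sum_const, nz _ (mem_sp.1 hP), show θ P = ω * ω by simp [hθdef, hPA]]
    · obtain ⟨u, hu⟩ := hUe
      rw [hu, nsmul_eq_mul]
      push_cast
      linear_combination -hω + ω * h2 - (u : F) * (ω - 1) * h2 + h2
    · rw [Finset.mem_insert, not_or] at hi
      by_cases hx : x i = 0
      · rw [hx]; ring
      have : i ∉ A := fun h => hi.1 (hAs i (mem_sp.2 hx) h)
      rw [show θ i = 1 by simp [hθdef, this, hi.2]]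
      ring
  obtain ⟨hy, hyy⟩ := step hσ hM hph hxx hU hθ hz hω0 (c := ω)
    (by linear_combination (ω * σ ω) * h2)
  refine ⟨_, hyy, hy, Finset.ext fun i => ?_⟩
  rw [Finset.mem_sdiff, mem_sp, mul_ne_zero_iff, mem_sp, sub_ne_zero]
  constructor
  · rintro ⟨h1, hx⟩
    refine ⟨hx, fun hiU => h1 ?_⟩
    simp [hθdef, hiU, Finset.disjoint_right.1 hAU hiU]
  · rintro ⟨hx, hiU⟩
    refine ⟨?_, hx⟩
    by_cases hiA : i ∈ A
    · rw [show θ i = ω * ω by simp [hθdef, hiA]]
      exact fun h => hω1 ((mul_eq_right₀ hω0).1 h)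
    · rw [show θ i = 1 by simp [hθdef, hiA, hiU]]
      exact fun h => hω1 h.symm

/-- Shrinking to four coordinates. -/
theorem shrink (hn : 13 ≤ n) {P Q : Fin n} (hPQ : P ≠ Q) :
    ∀ (s : ℕ) (x : Fin n → F), #(sp x) = s → 4 ≤ s → hermForm n F q x x = 0 → UtIn hf M x →
      P ∈ sp x → Q ∈ sp x →
      ∃ y : Fin n → F, hermForm n F q y y = 0 ∧ UtIn hf M y ∧ #(sp y) = 4 ∧ P ∈ sp y ∧ Q ∈ sp y := by
  classical
  intro s
  induction s using Nat.strong_induction_on with
  | _ s ih =>
  intro x hs h4 hxx hU hP hQ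
  obtain ⟨r, hr⟩ := hs ▸ even_sp hF hq hσ hxx
  rcases eq_or_lt_of_le h4 with h | h
  · exact ⟨x, hxx, hU, by omega, hP, hQ⟩
  have hrest : #((sp x).erase P |>.erase Q) = s - 2 := by
    rw [card_erase_of_mem (mem_erase.2 ⟨hPQ.symm, hQ⟩), card_erase_of_mem hP, hs]; rfl
  have next : ∀ (A U : Finset (Fin n)), A ∩ sp x = {P} → U ⊆ ((sp x).erase P).erase Q →
      Disjoint A U → Even #U → 2 * #A + #U = 6 → 0 < #U → #U + 4 ≤ s →
      ∃ y : Fin n → F, hermForm n F q y y = 0 ∧ UtIn hf M y ∧ #(sp y) = 4 ∧ P ∈ sp y ∧ Q ∈ sp y := by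
    intro A U hA hUs hAU hUe hc hpos hle
    have hU' : U ⊆ sp x := hUs.trans ((erase_subset _ _).trans (erase_subset _ _))
    have hQU : Q ∉ U := fun h => (mem_erase.1 (hUs h)).1 rfl
    have hPU : P ∉ U := fun h => (mem_erase.1 (mem_of_mem_erase (hUs h))).1 rfl
    obtain ⟨y, hyy, hy, hsy⟩ := remove hF hq hσ hM hph hxx hU hP hQ hPQ hA hU' hAU hQU hUe hc
    have hcy : #(sp y) = s - #U := by rw [hsy, card_sdiff_of_subset hU', hs]
    exact ih _ (by omega) y hcy (by omega) hyy hy (by rw [hsy]; exact Finset.mem_sdiff.2 ⟨hP, hPU⟩)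
      (by rw [hsy]; exact Finset.mem_sdiff.2 ⟨hQ, hQU⟩)
  by_cases he : ∃ e, e ∉ sp x
  · obtain ⟨e, he⟩ := he
    obtain ⟨U, hUs, hUc⟩ := exists_subset_card_eq (n := 2)
      (show 2 ≤ #(((sp x).erase P).erase Q) by omega)
    refine next {P, e} U ?_ hUs ?_ (hUc ▸ even_two) ?_ (by omega) (by omega)
    · ext i
      simp only [mem_inter, mem_insert, Finset.mem_singleton]
      constructor
      · rintro ⟨h1 | h1, h2⟩
        · exact h1
        · exact absurd (h1 ▸ h2) he
      · rintro rfl; exact ⟨Or.inl rfl, hP⟩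
    · rw [disjoint_insert_left, disjoint_singleton_left]
      exact ⟨fun h => (mem_erase.1 (mem_of_mem_erase (hUs h))).1 rfl,
        fun h => he (mem_of_mem_erase (mem_of_mem_erase (hUs h)))⟩
    · rw [card_pair (fun h : P = e => he (h ▸ hP)), hUc]
  · push Not at he
    have hsn : s = n := by
      rw [← hs, Finset.eq_univ_iff_forall.2 he, card_univ, Fintype.card_fin]
    obtain ⟨U, hUs, hUc⟩ := exists_subset_card_eq (n := 4)
      (show 4 ≤ #(((sp x).erase P).erase Q) by omega)
    refine next {P} U (by simp [hP]) hUs ?_ (hUc ▸ by decide) (by simp [hUc]) (by omega) (by omega)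
    rw [disjoint_singleton_left]
    exact fun h => (mem_erase.1 (mem_of_mem_erase (hUs h))).1 rfl

/-- With all pairs, one vector on four coordinates gives all. -/
theorem four_all (hn : 13 ≤ n) (hall : ∀ a b : Fin n, a ≠ b → Pair hf M a b) {y : Fin n → F}
    (hy4 : #(sp y) = 4) :
    ∀ (d : ℕ) (x : Fin n → F), #(sp x \ sp y) = d → #(sp x) = 4 → hermForm n F q x x = 0 →
      UtIn hf M x → UtIn hf M y := by
  classical
  obtain ⟨h2, nz, -⟩ := four hF hq hσ
  intro d
  induction d with
  | zero =>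
    intro x hd h4 hxx hU
    have hs : sp x = sp y := Finset.eq_of_subset_of_card_le
      (Finset.sdiff_eq_empty_iff_subset.1 (card_eq_zero.1 hd)) (by omega)
    obtain ⟨e, -, he⟩ := exists_mem_notMem_of_card_lt_card (s := sp x) (t := univ)
      (by rw [card_univ, Fintype.card_fin]; omega)
    set r : Fin n → F := fun i => if i ∈ sp x then y i / x i else 1
    have hr0 : ∀ i, r i ≠ 0 := fun i => by
      simp only [r]
      split_ifs with h
      · exact div_ne_zero (mem_sp.1 (hs ▸ h)) (mem_sp.1 h)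
      · exact one_ne_zero
    set θ : Fin n → F := fun i => if i = e then (∏ j ∈ sp x, r j)⁻¹ else r i
    have hθ : Ph σ θ := by
      refine ⟨fun i => nz _ ?_, ?_⟩
      · simp only [θ]
        split_ifs
        · exact inv_ne_zero (prod_ne_zero_iff.2 fun j _ => hr0 j)
        · exact hr0 i
      · rw [← prod_subset (subset_univ (insert e (sp x))) (fun i _ hi => by
          rw [Finset.mem_insert, not_or] at hi; simp [θ, r, hi.1, hi.2]), prod_insert he,
          prod_congr rfl (fun i (hi : i ∈ sp x) => show θ i = r i from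
            if_neg fun h : i = e => he (h ▸ hi))]
        simp only [θ, if_pos rfl]
        exact inv_mul_cancel₀ (prod_ne_zero_iff.2 fun j _ => hr0 j)
    obtain ⟨g, hg, hgx⟩ := hph θ hθ
    have hgy : (g : Matrix (Fin n) (Fin n) F) *ᵥ x = y := by
      funext i
      rw [hgx]
      by_cases hi : i ∈ sp x
      · rw [show θ i = y i / x i by simp [θ, r, hi, show i ≠ e from fun h => he (h ▸ hi)],
          div_mul_cancel₀ _ (mem_sp.1 hi)]
      · rw [notMem_sp.1 hi, mul_zero, (notMem_sp.1 (fun h => hi (hs ▸ h)) : y i = 0)]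
    exact hgy ▸ hU.conj hf hxx hg (hM hg)
  | succ d ih =>
    intro x hd h4 hxx hU
    obtain ⟨a, ha⟩ := card_pos.1 (by omega : 0 < #(sp x \ sp y))
    obtain ⟨hax, hay⟩ := Finset.mem_sdiff.1 ha
    obtain ⟨b, hby, hbx⟩ : ∃ b ∈ sp y, b ∉ sp x := by
      by_contra h
      push Not at h
      exact hay (Finset.eq_of_subset_of_card_le h (by omega) ▸ hax)
    have hab : a ≠ b := fun h => hbx (h ▸ hax)
    let v : Fin n → F := fun i => if i = a ∨ i = b then 1 else 0
    have hv : ∀ i, i ≠ a → i ≠ b → v i = 0 := fun i h h' => by simp [v, h, h']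
    have hvv : hermForm n F q v v = 0 := by
      rw [norm_two hσ hab hv]; simp [v]; linear_combination h2
    have hxv : hermForm n F q x v = x a := by
      rw [← u_conj hf v x, norm_two hσ hab hv, map_add, map_mul, map_mul, u_inv hf, u_inv hf]
      simp [v, notMem_sp.1 hbx]
    have hl := skew_one (σ := σ) hF hσ h2
    have hU' := hU.conj hf hxx (hall a b hab v hv hvv 1 hl) (ut_mem_iso hf hvv hl)
    set x' := (ut hf v 1 : Matrix (Fin n) (Fin n) F) *ᵥ x
    have hxx' : hermForm n F q x' x' = 0 := by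
      simp only [x', mem_isoGrp.1 (ut_mem_iso hf hvv hl), hxx]
    have hx'i : ∀ i, x' i = x i + x a * v i := fun i => by
      simp only [x', ut_mulVec hf hvv, hxv, one_mul, Pi.add_apply, Pi.smul_apply, smul_eq_mul]
    have hs' : sp x' = insert b ((sp x).erase a) := by
      ext i
      rw [mem_sp, hx'i, Finset.mem_insert, mem_erase, mem_sp]
      rcases eq_or_ne i a with rfl | h1
      · simp [v, hab, show x i + x i = 0 by linear_combination x i * h2]
      rcases eq_or_ne i b with rfl | h2'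
      · simp [v, notMem_sp.1 hbx, mem_sp.1 hax]
      simp [hv i h1 h2', h1, h2']
    refine ih x' ?_ ?_ hxx' hU'
    · rw [hs', insert_sdiff_of_mem _ hby, erase_sdiff_comm, card_erase_of_mem ha]
      omega
    · rw [hs', card_insert_of_notMem (fun h => hbx (mem_of_mem_erase h)), card_erase_of_mem hax]
      omega

/-- All isotropic vectors. -/
theorem utIn_all_two (hn : 13 ≤ n) (hall : ∀ a b : Fin n, a ≠ b → Pair hf M a b) {g : GL (Fin n) F}
    (hg : g ∈ M) {a : Fin n} (ha : 2 ≤ #(sp ((g : Matrix (Fin n) (Fin n) F) *ᵥ Pi.single a 1))) :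
    ∀ x : Fin n → F, hermForm n F q x x = 0 → UtIn hf M x := by
  classical
  obtain ⟨h2, nz, ω, hω, hω0, hω1, hσω⟩ := four hF hq hσ
  set col : Fin n → Fin n → F := fun b => (g : Matrix (Fin n) (Fin n) F) *ᵥ Pi.single b 1
  obtain ⟨b, hba, hb⟩ : ∃ b, b ≠ a ∧ 4 ≤ #(sp (col a) ∪ sp (col b)) := by
    by_contra h
    push Not at h
    obtain ⟨c, hca⟩ := exists_mem_ne (s := (univ : Finset (Fin n)))
      (by rw [card_univ, Fintype.card_fin]; omega) a
    have hA : #(sp (col a)) ≤ 3 := by
      have := h c hca.2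
      have := card_le_card (subset_union_left (s₁ := sp (col a)) (s₂ := sp (col c)))
      omega
    have hodd : Odd #(sp (col a)) := by
      have e : hermForm n F q (col a) (col a) = 1 := by
        rw [mem_isoGrp.1 (hM hg), herm_single_right' hσ, Pi.single_eq_same]
      rcases Nat.even_or_odd #(sp (col a)) with he | ho
      · exfalso
        obtain ⟨r, hr⟩ := he
        rw [herm_sum hσ, ← sum_subset (subset_univ (sp (col a))) (fun i _ hi => by
          rw [notMem_sp.1 hi, zero_mul]), sum_congr rfl (fun i hi => nz _ (mem_sp.1 hi)), sum_const,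
          hr, nsmul_eq_mul] at e
        push_cast at e
        exact one_ne_zero (α := F) (by linear_combination (r : F) * h2 - e)
      · exact ho
    have hA3 : #(sp (col a)) = 3 := by
      have : 2 ≤ #(sp (col a)) := ha
      obtain ⟨r, hr⟩ := hodd
      omega
    have hsub : ∀ b, ∀ i, i ∉ sp (col a) → col b i = 0 := by
      intro b i hi
      by_contra hne
      rcases eq_or_ne b a with rfl | hba
      · exact hi (mem_sp.2 hne)
      have := h b hba
      have h' : insert i (sp (col a)) ⊆ sp (col a) ∪ sp (col b) :=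
        Finset.insert_subset (Finset.mem_union_right _ (mem_sp.2 hne)) subset_union_left
      have := card_le_card h'
      rw [card_insert_of_notMem hi] at this
      omega
    obtain ⟨i, -, hi⟩ := exists_mem_notMem_of_card_lt_card (s := sp (col a)) (t := univ)
      (by rw [card_univ, Fintype.card_fin]; omega)
    have hrow : ∀ b, (g : Matrix (Fin n) (Fin n) F) i b = 0 := fun b => by
      rw [← mulVec_single_one_apply (g : Matrix (Fin n) (Fin n) F) b i]; exact hsub b i hi
    have := gl_entry_sum g i i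
    simp [hrow] at this
  -- a vector of weight at least four
  have hv : ∀ θ : F, θ ≠ 0 → UtIn hf M (col a + θ • col b) ∧
      hermForm n F q (col a + θ • col b) (col a + θ • col b) = 0 := by
    intro θ hθ
    set v : Fin n → F := Pi.single a 1 + θ • Pi.single b 1
    have hsupp : ∀ i, i ≠ a → i ≠ b → v i = 0 := fun i h1 h2 => by simp [v, h1, h2]
    have hvv : hermForm n F q v v = 0 := by
      rw [norm_two hσ hba.symm hsupp]
      simp [v, hba, hba.symm, nz θ hθ]
      linear_combination h2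
    have e : col a + θ • col b = (g : Matrix (Fin n) (Fin n) F) *ᵥ v := by
      simp only [v, col, mulVec_add, mulVec_smul]
    rw [e]
    exact ⟨(hall a b hba.symm v hsupp hvv).conj hf hvv hg (hM hg), by rw [mem_isoGrp.1 (hM hg), hvv]⟩
  obtain ⟨θ, hθ, hbig⟩ : ∃ θ : F, θ ≠ 0 ∧ 2 < #(sp (col a + θ • col b)) := by
    by_contra h
    push Not at h
    set U := sp (col a) ∪ sp (col b)
    set T : Finset F := {1, ω, ω * ω}
    have hT : #T = 3 := by
      rw [card_insert_of_notMem, card_pair]
      · exact fun h => hω1 ((mul_eq_right₀ hω0).1 h.symm)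
      · simp only [mem_insert, Finset.mem_singleton, not_or]
        exact ⟨Ne.symm hω1, fun h => hω0 (by linear_combination hω + h - h2)⟩
    have hT0 : ∀ t ∈ T, t ≠ 0 := by
      intro t ht
      simp only [T, mem_insert, Finset.mem_singleton] at ht
      rcases ht with rfl | rfl | rfl
      · exact one_ne_zero
      · exact hω0
      · exact mul_ne_zero hω0 hω0
    have key : ∀ i ∈ U, 2 ≤ #(T.filter fun t => i ∈ sp (col a + t • col b)) := by
      intro i hi
      have hz : #(T.filter fun t => i ∉ sp (col a + t • col b)) ≤ 1 := by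
        refine card_le_one.2 fun t ht t' ht' => ?_
        simp only [mem_filter, notMem_sp, Pi.add_apply, Pi.smul_apply, smul_eq_mul] at ht ht'
        by_contra hne
        have hb0 : col b i = 0 := (mul_eq_zero.1 (show (t - t') * col b i = 0 by
          linear_combination ht.2 - ht'.2)).resolve_left (sub_ne_zero.2 hne)
        have ha0 : col a i = 0 := by simpa [hb0] using ht.2
        simp [U, mem_sp, ha0, hb0] at hi
      have := card_filter_add_card_filter_not (s := T) (fun t => i ∈ sp (col a + t • col b))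
      omega
    have h1 : 2 * #U ≤ ∑ t ∈ T, #(sp (col a + t • col b)) := by
      calc 2 * #U = ∑ i ∈ U, 2 := by rw [sum_const, smul_eq_mul, mul_comm]
        _ ≤ ∑ i ∈ U, #(T.filter fun t => i ∈ sp (col a + t • col b)) := sum_le_sum key
        _ = ∑ t ∈ T, #(U.filter fun i => i ∈ sp (col a + t • col b)) := by
          simp only [card_filter]; exact sum_comm
        _ ≤ _ := sum_le_sum fun t _ => card_le_card fun i hi => (mem_filter.1 hi).2
    have h2' : ∑ t ∈ T, #(sp (col a + t • col b)) ≤ 3 * 2 := by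
      rw [← hT]
      exact (sum_le_card_nsmul _ _ 2 fun t ht => h t (hT0 t ht)).trans (le_of_eq (smul_eq_mul _ _))
    omega
  obtain ⟨hxU, hxx⟩ := hv θ hθ
  obtain ⟨r, hr⟩ := even_sp hF hq hσ hxx
  obtain ⟨P, Q, hP, hQ, hPQ⟩ := one_lt_card_iff.1 (show 1 < #(sp (col a + θ • col b)) by omega)
  obtain ⟨y, hyy, hyU, hy4, -, -⟩ := shrink hF hq hσ hM hph hn hPQ _ _ rfl (by omega) hxx hxU hP hQ
  have hfour : ∀ x : Fin n → F, #(sp x) = 4 → UtIn hf M x := fun x hx =>
    four_all hF hq hσ hM hph hn hall hx _ y rfl hy4 hyy hyU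
  suffices ∀ s, ∀ x : Fin n → F, #(sp x) = s → hermForm n F q x x = 0 → UtIn hf M x from
    fun x hx => this _ x rfl hx
  intro s
  induction s using Nat.strong_induction_on with
  | _ s ih =>
  intro x hs hxx
  obtain ⟨r, hr⟩ := hs ▸ even_sp hF hq hσ hxx
  rcases (show r = 0 ∨ r = 1 ∨ r = 2 ∨ 3 ≤ r by omega) with h | h | h | h
  · have : x = 0 := funext fun i => notMem_sp.1 fun hi => by
      have := card_pos.2 ⟨i, hi⟩
      omega
    exact this ▸ utIn_zero
  · obtain ⟨u, w, huw, huw'⟩ := card_eq_two.1 (show #(sp x) = 2 by omega)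
    exact hall u w huw x (fun i h1 h2 => notMem_sp.1 (by simp [huw', h1, h2])) hxx
  · exact hfour x (by omega)
  obtain ⟨J, hJs, hJ4⟩ := exists_subset_card_eq (s := sp x) (n := 4) (by omega)
  obtain ⟨j1, j2, l1, l2, h12, h13, h14, h23, h24, h34, hJ⟩ := card_eq_four.1 hJ4
  have hmem : ∀ i ∈ J, x i ≠ 0 := fun i hi => mem_sp.1 (hJs hi)
  have hx1 : x j1 ≠ 0 := hmem _ (by simp [hJ])
  have hx2 : x j2 ≠ 0 := hmem _ (by simp [hJ])
  have hx3 : x l1 ≠ 0 := hmem _ (by simp [hJ])
  have hx4 : x l2 ≠ 0 := hmem _ (by simp [hJ])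
  set y1 : Fin n → F := fun i => if i = j1 ∨ i = j2 then x i else if i = l1 then ω * x i
    else if i = l2 then ω * ω * x i else 0 with hy1def
  have hy1s : sp y1 = J := by
    ext i
    rw [mem_sp, hJ]
    simp only [hy1def, mem_insert, Finset.mem_singleton]
    split_ifs with a1 a2 a3
    · rcases a1 with rfl | rfl <;> simp [hx1, hx2]
    · subst a2; simp [hx3, hω0]
    · subst a3; simp [hx4, hω0]
    · simp [a2, a3, not_or.1 a1]
  have hy1y1 : hermForm n F q y1 y1 = 0 := by
    rw [herm_sum hσ, ← sum_subset (subset_univ J) (fun i _ hi => by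
      rw [(notMem_sp.1 (fun h => hi (hy1s ▸ h)) : y1 i = 0), zero_mul]), sum_congr rfl (fun i hi => nz _ (mem_sp.1 (hy1s ▸ hi))),
      sum_const, hJ4, nsmul_eq_mul]
    push_cast
    linear_combination 2 * h2
  have hfx : hermForm n F q x y1 = 1 := by
    rw [herm_sum hσ, ← sum_subset (subset_univ J) (fun i _ hi => by
      rw [(notMem_sp.1 (fun h => hi (hy1s ▸ h)) : y1 i = 0), map_zero, mul_zero]), hJ]
    simp only [sum_insert, mem_insert, Finset.mem_singleton, h12, h13, h14, h23, h24, h34, or_self,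
      not_false_eq_true, sum_singleton, hy1def, h12.symm, h13.symm, h14.symm, h23.symm, h24.symm,
      h34.symm, true_or, or_true, if_true, if_false, map_mul, hσω]
    linear_combination nz _ hx1 + nz _ hx2 + ω * ω * nz _ hx3 + ω * ω * ω * ω * nz _ hx4 +
      (1 : F) * h2 + (ω * ω - ω + 1) * hω - ω * 0 + (-1 : F) * h2
  set y2 : Fin n → F := x - y1
  have hy2 : hermForm n F q y2 y2 = 0 := by
    simp only [y2, u_sub_left hf, u_sub_right hf, hxx, hy1y1, hfx, ← u_conj hf x y1, map_one]
    linear_combination (-1 : F) * h2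
  have hsub : sp y2 ⊆ sp x \ {j1, j2} := fun i hi => by
    rw [mem_sp] at hi
    simp only [y2, Pi.sub_apply, hy1def] at hi
    rw [Finset.mem_sdiff, mem_sp]
    simp only [mem_insert, Finset.mem_singleton]
    by_cases a1 : i = j1 ∨ i = j2
    · simp [a1] at hi
    refine ⟨fun h0 => hi ?_, a1⟩
    simp [h0]
  have hlt : #(sp y2) < s := by
    have := card_le_card hsub
    rw [card_sdiff_of_subset (by
      intro i hi
      simp only [mem_insert, Finset.mem_singleton] at hi
      rcases hi with rfl | rfl <;> rw [mem_sp] <;> assumption), card_pair h12] at this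
    omega
  have hU2 := ih _ hlt y2 rfl hy2
  have hl := skew_one (σ := σ) hF hσ h2
  have hU' := hU2.conj hf hy2 (hfour y1 (hy1s ▸ hJ4) 1 hl) (ut_mem_iso hf hy1y1 hl)
  rwa [ut_mulVec hf hy1y1, show hermForm n F q y2 y1 = 1 by
    simp only [y2, u_sub_left hf, hy1y1, hfx, sub_zero], mul_one, one_smul, sub_add_cancel] at hU'

end Cfsg.Agent.H63.UDec
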