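import Cfsg.Agent.H63.UDec.Up
import Cfsg.Agent.H63.UDec.Full
import Cfsg.Agent.H63.UDec.Two
import Cfsg.Agent.H63.UDec.OneTop
import Cfsg.Agent.Unitary.Isotropic

/-!
Overgroups of a block stabiliser in `SU`, in an adapted orthonormal frame.
-/

set_option autoImplicit false

namespace Cfsg.Agent.H63.UDec

open scoped MatrixGroups Matrix
open Finset Matrix Cfsg Cfsg.Agent.H95 Cfsg.Agent.Symplectic

variable {F : Type*} [Field F] {n q : ℕ} {σ : F ≃+* F} {t k : ℕ}

/-- `h` maps block `B` into block `π B` -/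
def BlockMap (blk : Fin n → Fin t) (h : GL (Fin n) F) (π : Equiv.Perm (Fin t)) : Prop :=
  ∀ i m, ((h : Matrix (Fin n) (Fin n) F) *ᵥ Pi.single i 1) m ≠ 0 → blk m = π (blk i)

/-- `M` contains the block stabiliser -/
def HasBlocks (f : (Fin n → F) → (Fin n → F) → F) (blk : Fin n → Fin t)
    (M : Subgroup (GL (Fin n) F)) : Prop :=
  ∀ h ∈ isoGrp f ⊓ Geo.specialLinear (Fin n) F, ∀ π, BlockMap blk h π → h ∈ M

theorem blockMap_mp (blk : Fin n → Fin t) (ρ : Equiv.Perm (Fin n)) (c : Fin n → Fˣ)
    (π : Equiv.Perm (Fin t)) (hρ : ∀ i, blk i = π (blk (ρ i))) : BlockMap blk (mp ρ c) π := by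
  intro i m hm
  obtain ⟨m', hm'⟩ := ρ.surjective i
  have : m = m' := by
    by_contra h
    rw [mp_single ρ c hm'] at hm
    exact hm (by simp [h])
  rw [this, hρ m', hm']

section

variable {hf : Geo.IsUnitaryForm σ (hermForm n F q)} {M : Subgroup (GL (Fin n) F)}
  {blk : Fin n → Fin t}

theorem phases_of_blocks (hf : Geo.IsUnitaryForm σ (hermForm n F q)) (hσ : ∀ x, σ x = x ^ q)
    (hS : HasBlocks (hermForm n F q) blk M) : Phases σ M := by
  intro θ hθ
  set c : Fin n → Fˣ := fun i => Units.mk0 (θ i) (ne_zero_of_norm (hθ.1 i))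
  refine ⟨mp 1 c, hS _ ⟨mp_iso hf hσ 1 (fun i => hθ.1 i), ?_⟩ 1
    (blockMap_mp blk 1 c 1 fun i => rfl), fun x i => mp_apply 1 c x i⟩
  show mp 1 c ∈ Geo.specialLinear (Fin n) F
  rw [mem_specialLinear_iff, mp_det]
  simpa [c] using hθ.2

/-- Pairs inside a block. -/
theorem pair_block (hσ : ∀ x, σ x = x ^ q) (hS : HasBlocks (hermForm n F q) blk M) {a b : Fin n}
    (h : blk a = blk b) : Pair hf M a b := by
  intro v hv hvv l hl
  refine hS _ ⟨ut_mem_iso hf hvv hl, ut_mem_sl hf v l⟩ 1 fun i m hm => ?_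
  rw [ut_mulVec hf hvv, ← u_conj hf v, herm_single_right' hσ] at hm
  simp only [Pi.add_apply, Pi.smul_apply, smul_eq_mul] at hm
  rcases eq_or_ne m i with rfl | hmi
  · rfl
  rw [Pi.single_eq_of_ne hmi, zero_add] at hm
  have hi : v i ≠ 0 := fun h => hm (by simp [h])
  have hm' : v m ≠ 0 := fun h => hm (by simp [h])
  have key : ∀ x, v x ≠ 0 → blk x = blk a := fun x hx => by
    by_contra hne
    exact hx (hv x (fun e => hne (e ▸ rfl)) (fun e => hne (e ▸ h.symm)))
  simp [key i hi, key m hm']

variable [Fintype F]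

theorem blockMap_of_mon {blk : Fin n → Fin t} (hbij : Function.Bijective blk) {h : GL (Fin n) F}
    (hmon : Mon h) : ∃ π, BlockMap blk h π := by
  classical
  set col := fun i => (h : Matrix (Fin n) (Fin n) F) *ᵥ Pi.single i 1
  have hne : ∀ i, ∃ m, col i m ≠ 0 := fun i => by
    by_contra h0
    push Not at h0
    exact (gl_cols_independent h).ne_zero i (funext h0)
  choose ρ hρ using hne
  have huniq : ∀ i m, col i m ≠ 0 → m = ρ i := fun i m hm =>
    card_le_one.1 (hmon i) m (mem_sp.2 hm) (ρ i) (mem_sp.2 (hρ i))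
  have hρinj : Function.Injective ρ := by
    intro i j hij
    by_contra hne
    have hli := (gl_cols_independent h).comp ![i, j] (by
      intro x y hxy
      fin_cases x <;> fin_cases y <;> simp_all [Ne.symm hne])
    rw [Fintype.linearIndependent_iff] at hli
    have := hli ![col j (ρ j), -col i (ρ j)] (by
      funext m
      simp only [Fin.sum_univ_two, Function.comp, Matrix.cons_val_zero, Matrix.cons_val_one,
        Pi.add_apply, Pi.smul_apply, smul_eq_mul, Pi.zero_apply, col]
      rcases eq_or_ne m (ρ j) with rfl | hm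
      · ring
      · have h1 : col i m = 0 := by
          by_contra h'
          exact hm ((huniq i m h').trans hij)
        have h2 : col j m = 0 := by
          by_contra h'
          exact hm (huniq j m h')
        simp only [col] at h1 h2
        rw [h1, h2]
        ring) 0
    exact hρ j (by simpa using this)
  refine ⟨(Equiv.ofBijective blk hbij).symm.trans
    ((Equiv.ofBijective ρ (Finite.injective_iff_bijective.1 hρinj)).trans
      (Equiv.ofBijective blk hbij)), fun i m hm => ?_⟩
  rw [huniq i m hm]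
  simp [Equiv.ofBijective_symm_apply_apply]

theorem hasMon_of_blocks (htk : t * k = n) (hk : k = 1)
    (hblk : ∀ B, #(univ.filter fun i => blk i = B) = k) (hS : HasBlocks (hermForm n F q) blk M) :
    Function.Bijective blk ∧ HasMon (hermForm n F q) M := by
  classical
  subst hk
  have hinj : Function.Injective blk := fun i j h =>
    card_le_one.1 (hblk (blk j)).le i (by simp [h]) j (by simp)
  have hbij : Function.Bijective blk :=
    (Fintype.bijective_iff_injective_and_card blk).2 ⟨hinj, by simp [← htk]⟩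
  exact ⟨hbij, fun h hh hmon =>
    (blockMap_of_mon hbij hmon).elim fun π hπ => hS h hh π hπ⟩

/-- A vector in two blocks. -/
theorem exists_cross (hf : Geo.IsUnitaryForm σ (hermForm n F q)) (hF : Fintype.card F = q ^ 2)
    (hσ : ∀ x, σ x = x ^ q) (hk : 2 ≤ k) (hblk : ∀ B, #(univ.filter fun i => blk i = B) = k)
    (hM : M ≤ isoGrp (hermForm n F q)) (hS : HasBlocks (hermForm n F q) blk M) {g : GL (Fin n) F}
    (hg : g ∈ M) (hgb : ∀ π, ¬ BlockMap blk g π)
    (hMG : ∀ v : Fin n → F, hermForm n F q v v = 0 → (∃ B, ∀ m, blk m ≠ B → v m = 0) → UtIn hf M v) :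
    ∃ x : Fin n → F, hermForm n F q x x = 0 ∧ UtIn hf M x ∧
      ∃ a b, blk a ≠ blk b ∧ x a ≠ 0 ∧ x b ≠ 0 := by
  classical
  by_contra hcon
  push Not at hcon
  set ax : (B : Fin t) → {i : Fin n // blk i = B} → Fin n → F := fun B i => Pi.single i.1 1
  set Dst : Fin t → Submodule F (Fin n → F) := fun B => Submodule.span F (Set.range (ax B))
  have hON : ∀ B, Unitary.ON q (ax B) := fun B i j => by
    simp only [ax]
    rw [herm_single_right' hσ, Pi.single_apply]
    simp [Subtype.ext_iff, eq_comm]
  have hdim : ∀ B, Module.finrank F (Dst B) = k := fun B => by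
    rw [(hON B).finrank_span, Fintype.card_subtype, hblk]
  have hnd : ∀ B, Unitary.Nondeg q (Dst B) := fun B => (hON B).nondeg
  have hmem : ∀ B v, v ∈ Dst B ↔ ∀ m, blk m ≠ B → v m = 0 := by
    intro B v
    constructor
    · intro hv m hm
      induction hv using Submodule.span_induction with
      | mem y hy =>
        obtain ⟨i, rfl⟩ := hy
        exact Pi.single_eq_of_ne (fun e : m = i.1 => hm (e ▸ i.2)) 1
      | zero => rfl
      | add p r _ _ hp hr => rw [Pi.add_apply, hp, hr, add_zero]
      | smul c p _ hp => rw [Pi.smul_apply, hp, smul_zero]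
    · intro hv
      rw [pi_eq_sum_univ' v]
      refine Submodule.sum_mem _ fun i _ => ?_
      by_cases hi : blk i = B
      · exact Submodule.smul_mem _ _ (Submodule.subset_span ⟨⟨i, hi⟩, rfl⟩)
      · rw [hv i hi, zero_smul]; exact Submodule.zero_mem _
  set G := (g : Matrix (Fin n) (Fin n) F)
  have hone : ∀ B, ∀ u ∈ Dst B, hermForm n F q u u = 0 → ∀ a b, (G *ᵥ u) a ≠ 0 → (G *ᵥ u) b ≠ 0 →
      blk a = blk b := by
    intro B u hu huu a b ha hb
    by_contra hne
    exact hb (hcon _ (by rw [mem_isoGrp.1 (hM hg)]; exact huu)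
      ((hMG u huu ⟨B, (hmem B u).1 hu⟩).conj hf huu hg (hM hg)) a b hne ha)
  have hnz : ∀ u : Fin n → F, u ≠ 0 → ∃ m, (G *ᵥ u) m ≠ 0 := fun u hu => by
    by_contra h0
    push Not at h0
    apply hu
    rw [← inv_mulVec_mulVec g u, show G *ᵥ u = 0 from funext h0, mulVec_zero]
  have key : ∀ B, ∃ C, ∀ v ∈ Dst B, G *ᵥ v ∈ Dst C := by
    intro B
    obtain ⟨u0, hu0, hu00, hu0i⟩ := Unitary.exists_isotropic hF (hnd B) (by rw [hdim]; exact hk)
    obtain ⟨m0, hm0⟩ := hnz u0 hu00
    set C := blk m0
    have h0C : G *ᵥ u0 ∈ Dst C := (hmem C _).2 fun m hm => by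
      by_contra h
      exact hm (hone B u0 hu0 hu0i m m0 h hm0)
    -- orthogonal images lie in different blocks
    have hmove : ∀ u ∈ Dst B, hermForm n F q u u = 0 → ∀ u' ∈ Dst B, hermForm n F q u' u' = 0 →
        hermForm n F q u u' ≠ 0 → G *ᵥ u ∈ Dst C → G *ᵥ u' ∈ Dst C := by
      intro u hu huu u' hu' hu'u' hne hC
      refine (hmem C _).2 fun m hm => ?_
      by_contra h
      apply hne
      rw [← mem_isoGrp.1 (hM hg), herm_sum hσ]
      refine sum_eq_zero fun i _ => ?_
      by_cases hi : blk i = C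
      · have : (G *ᵥ u') i = 0 := by
          by_contra h'
          exact hm ((hone B u' hu' hu'u' m i h h').trans hi)
        rw [show (g : Matrix (Fin n) (Fin n) F) *ᵥ u' = G *ᵥ u' from rfl, this, map_zero, mul_zero]
      · rw [show (g : Matrix (Fin n) (Fin n) F) *ᵥ u = G *ᵥ u from rfl, (hmem C _).1 hC i hi, zero_mul]
    refine ⟨C, Unitary.exists_add_isotropic hF (hnd B) (by rw [hdim]; exact hk) (fun u hu huu => ?_)
      fun w _ w' _ h1 h2 => by rw [mulVec_add]; exact Submodule.add_mem _ h1 h2⟩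
    rcases eq_or_ne u 0 with rfl | hu'
    · rw [mulVec_zero]; exact Submodule.zero_mem _
    by_cases hne : hermForm n F q u0 u = 0
    swap
    · exact hmove u0 hu0 hu0i u hu huu hne h0C
    by_cases hprop : ∃ c : F, c • u0 = u
    · obtain ⟨c, rfl⟩ := hprop
      rw [mulVec_smul]
      exact Submodule.smul_mem _ _ h0C
    push Not at hprop
    have hli : LinearIndependent F ![u0, u] := (LinearIndependent.pair_iff' hu00).2 hprop
    have h3 : 3 ≤ Module.finrank F (Dst B) := by
      by_contra h3
      have heq := Submodule.eq_of_le_of_finrank_le (Unitary.span_pair_le hu0 hu)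
        (by rw [Unitary.finrank_pair hli]; omega)
      refine hu00 (hnd B u0 hu0 fun v hv => ?_)
      rw [← heq] at hv
      obtain ⟨p, r, rfl⟩ := Submodule.mem_span_pair.1 hv
      rw [u_add_right hf, u_smul_right hf, u_smul_right hf, hu0i, hne]
      ring
    obtain ⟨z, hz, hzz, hz1, hz2⟩ :=
      Unitary.exists_iso_nonperp hF (hnd B) h3 hu0 hu hu0i huu hu00 hu'
    exact hmove z hz hzz u hu huu hz2
      (hmove u0 hu0 hu0i z hz hzz (fun h => hz1 (u_symm_zero hf h)) h0C)
  choose C hC using key
  have hCinj : Function.Injective C := by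
    intro B B' hBB
    by_contra hne
    set A := univ.filter fun i => blk i = B ∨ blk i = B'
    have hA : #A = 2 * k := by
      rw [show A = (univ.filter fun i => blk i = B) ∪ univ.filter fun i => blk i = B' by
        ext i; simp [A], card_union_of_disjoint (by
          rw [Finset.disjoint_filter]; intro i _ h h'; exact hne (h.symm.trans h')), hblk, hblk]
      ring
    have hin : ∀ i : A, G *ᵥ Pi.single i.1 1 ∈ Dst (C B) := fun i => by
      rcases (mem_filter.1 i.2).2 with h | h
      · exact hC B _ (Submodule.subset_span ⟨⟨i.1, h⟩, rfl⟩)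
      · rw [hBB]; exact hC B' _ (Submodule.subset_span ⟨⟨i.1, h⟩, rfl⟩)
    have hli : LinearIndependent F fun i : A => (⟨G *ᵥ Pi.single i.1 1, hin i⟩ : Dst (C B)) :=
      LinearIndependent.of_comp (Submodule.subtype _)
        ((gl_cols_independent g).comp (fun i : A => i.1) Subtype.val_injective)
    have := hli.fintype_card_le_finrank
    rw [Fintype.card_coe, hA, hdim] at this
    omega
  refine hgb (Equiv.ofBijective C (Finite.injective_iff_bijective.1 hCinj)) fun i m hm => ?_
  by_contra hne
  exact hm ((hmem _ _).1 (hC (blk i) _ (Submodule.subset_span ⟨⟨i, rfl⟩, rfl⟩)) m hne)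

/-- A non-monomial element in a block. -/
theorem exists_nonmon_block (hf : Geo.IsUnitaryForm σ (hermForm n F q)) (hF : Fintype.card F = q ^ 2)
    (hq : q = 2) (hσ : ∀ x, σ x = x ^ q) (ht : 2 ≤ t) (hk : 3 ≤ k)
    (hblk : ∀ B, #(univ.filter fun i => blk i = B) = k) (hS : HasBlocks (hermForm n F q) blk M) :
    ∃ g ∈ M, ∃ a, 2 ≤ #(sp ((g : Matrix (Fin n) (Fin n) F) *ᵥ Pi.single a 1)) := by
  classical
  obtain ⟨h2, nz, ω, hω, hω0, hω1, hσω⟩ := four hF hq hσ
  set B0 : Fin t := ⟨0, by omega⟩
  obtain ⟨a, b, c, ha, hb, hc, hab, hac, hbc⟩ := two_lt_card_iff.1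
    (show 2 < #(univ.filter fun i => blk i = B0) by rw [hblk]; omega)
  obtain ⟨z, hz⟩ := card_pos.1 (show 0 < #(univ.filter fun i => blk i = ⟨1, by omega⟩) by
    rw [hblk]; omega)
  simp only [mem_filter, mem_univ, true_and] at ha hb hc hz
  have hzne : ∀ x, blk x = B0 → x ≠ z := fun x hx e => by
    rw [e, hz] at hx
    simp [B0] at hx
  set u : Fin n → F := fun i => if i = a ∨ i = b ∨ i = c then 1 else 0
  have hu : ∀ i, u i ≠ 0 → blk i = B0 := fun i hi => by
    simp only [u, ne_eq, ite_eq_right_iff, Classical.not_imp] at hi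
    rcases hi.1 with rfl | rfl | rfl <;> assumption
  have hfu : ∀ x : Fin n → F, hermForm n F q x u = x a + x b + x c := fun x => by
    rw [herm_sum hσ, ← sum_subset (subset_univ ({a, b, c} : Finset (Fin n))) (fun i _ hi => by
      simp only [mem_insert, Finset.mem_singleton, not_or] at hi
      simp [u, hi.1, hi.2.1, hi.2.2]), sum_insert (by simp [hab, hac]), sum_insert (by simp [hbc]),
      sum_singleton]
    simp [u, add_assoc]
  have huu : hermForm n F q u u = 1 := by
    rw [hfu]; simp [u]; linear_combination h2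
  have huz : u z = 0 := by
    by_contra h
    exact hzne z (hu z h) rfl
  have hφ : (fun j => hermForm n F q (Pi.single j 1) u) ⬝ᵥ u = 1 := by rw [u_dot hf]; exact huu
  set ν : Fˣ := Units.mk0 ω hω0
  have hz1 : ∀ v, hermForm n F q v (Pi.single z 1) = v z := fun v => herm_single_right' hσ v z
  have hφz : (fun j => hermForm n F q (Pi.single j 1) (Pi.single z 1)) ⬝ᵥ Pi.single z 1 = 1 := by
    rw [u_dot hf, hz1, Pi.single_eq_same]
  set h := dl u _ ν hφ * dl (Pi.single z 1) _ ν⁻¹ hφz
  have hx : ∀ x, (h : Matrix (Fin n) (Fin n) F) *ᵥ x =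
      x + ((ω - 1) * (x a + x b + x c)) • u + ((ω⁻¹ - 1) * x z) • Pi.single z 1 := by
    intro x
    rw [show h = _ from rfl, mul_mulVec, dl_mulVec, dl_mulVec, u_dot hf, u_dot hf, hz1]
    rw [u_add_left hf, u_smul_left hf, hfu,
      show hermForm n F q (Pi.single z 1) u = 0 by
        rw [← u_conj hf u, herm_single_right' hσ, huz, map_zero]]
    simp only [ν, Units.val_mk0, Units.val_inv_eq_inv_val, mul_zero, add_zero]
    module
  have hrefl : ∀ (a : Fin n → F) (μ : Fˣ) (hφ : (fun j => hermForm n F q (Pi.single j 1) a) ⬝ᵥ a = 1),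
      dl a _ μ hφ ∈ isoGrp (hermForm n F q) := by
    intro a μ hφ
    have ha1 : hermForm n F q a a = 1 := by rw [← u_dot hf]; exact hφ
    rw [mem_isoGrp]
    intro x y
    simp only [dl_mulVec, u_dot hf, u_add_left hf, u_add_right hf, u_smul_left hf, u_smul_right hf,
      ha1, map_mul, map_sub, map_one, u_conj hf]
    linear_combination (hermForm n F q x a * hermForm n F q a y) * nz _ μ.ne_zero
  have hiso : h ∈ isoGrp (hermForm n F q) := Subgroup.mul_mem _ (hrefl u ν hφ) (hrefl _ ν⁻¹ hφz)
  have hdet : h ∈ Geo.specialLinear (Fin n) F := by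
    rw [mem_specialLinear_iff, show h = _ from rfl, Units.val_mul, det_mul, dl_det, dl_det,
      ← Units.val_mul, mul_inv_cancel, Units.val_one]
  refine ⟨h, hS h ⟨hiso, hdet⟩ 1 fun i m hm => ?_, a, ?_⟩
  · rw [hx] at hm
    simp only [Pi.add_apply, Pi.smul_apply, smul_eq_mul] at hm
    rcases eq_or_ne m i with rfl | hmi
    · rfl
    rw [Pi.single_eq_of_ne hmi, zero_add] at hm
    rcases eq_or_ne m z with rfl | hmz
    · rw [huz, mul_zero, zero_add, Pi.single_eq_of_ne hmi] at hm
      simp at hm
    rw [Pi.single_eq_of_ne hmz, mul_zero, add_zero, mul_ne_zero_iff, mul_ne_zero_iff] at hm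
    have hi : i = a ∨ i = b ∨ i = c := by
      by_contra hh
      rw [not_or, not_or] at hh
      exact hm.1.2 (by simp [Ne.symm hh.1, Ne.symm hh.2.1, Ne.symm hh.2.2])
    have : blk i = B0 := by rcases hi with rfl | rfl | rfl <;> assumption
    simp [hu m hm.2, this]
  · refine le_trans (card_pair hbc).ge (card_le_card fun m hm => ?_)
    simp only [mem_insert, Finset.mem_singleton] at hm
    rw [mem_sp, hx]
    rcases hm with hm | hm <;> subst m <;>
      simp [u, hab, hac, hab.symm, hac.symm, hzne a ha, (hzne a ha).symm, hzne b hb, hzne c hc,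
        sub_ne_zero, hω1]

/-- All pairs from one cross pair. -/
theorem all_pairs (hF : Fintype.card F = q ^ 2) (hσ : ∀ x, σ x = x ^ q) (hn : 4 ≤ n)
    (e : Fin t × Fin k ≃ Fin n) (hblk : ∀ i, blk i = (e.symm i).1)
    (hM : M ≤ isoGrp (hermForm n F q)) (hS : HasBlocks (hermForm n F q) blk M) {a b : Fin n}
    (hab : blk a ≠ blk b) (hP : Pair hf M a b) : ∀ c d, c ≠ d → Pair hf M c d := by
  classical
  have hph := phases_of_blocks hf hσ hS
  have trans' : ∀ {x y z : Fin n}, Pair hf M x y → Pair hf M y z → x ≠ z → Pair hf M x z := by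
    intro x y z h1 h2 hxz
    rcases eq_or_ne x y with rfl | hxy
    · exact h2
    rcases eq_or_ne y z with rfl | hyz
    · exact h1
    exact h1.trans hF hσ hn hM hph hxy hyz hxz h2
  intro c d hcd
  by_cases hsame : blk c = blk d
  · exact pair_block hσ hS hsame
  -- a permutation of the blocks
  set π1 := Equiv.swap (blk a) (blk c)
  set π : Equiv.Perm (Fin t) := Equiv.swap (π1 (blk b)) (blk d) * π1
  have hπb : π (blk b) = blk d := by simp [π]
  have hπa : π (blk a) = blk c := by
    have h1 : π1 (blk a) = blk c := Equiv.swap_apply_left _ _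
    rw [Equiv.Perm.mul_apply, h1, Equiv.swap_apply_of_ne_of_ne
      (fun h => hab (π1.injective (h1.trans h))) hsame]
  set ρ : Equiv.Perm (Fin n) := e.symm.trans ((π.prodCongr (Equiv.refl (Fin k))).trans e)
  have hρ : ∀ i, blk (ρ i) = π (blk i) := fun i => by simp [ρ, hblk]
  set s : Fˣ := Units.map (Int.castRingHom F).toMonoidHom (Equiv.Perm.sign ρ)
  have hs : (s : F) = ((Equiv.Perm.sign ρ : ℤ) : F) := rfl
  have hs2 : (s : F) * (s : F) = 1 := by
    rw [hs, ← Int.cast_mul, ← Units.val_mul, Int.units_mul_self, Units.val_one, Int.cast_one]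
  set cc : Fin n → Fˣ := fun i => if i = a then s else 1
  have hcc : ∀ i, (cc i : F) * σ (cc i) = 1 := fun i => by
    simp only [cc]
    split_ifs
    · have : σ (s : F) = s := by rw [hs, map_intCast]
      rw [this, hs2]
    · simp
  set h := mp ρ.symm cc
  have hhi : h ∈ isoGrp (hermForm n F q) := mp_iso hf hσ _ hcc
  have hh : h ∈ M := hS h ⟨hhi, by
    show h ∈ Geo.specialLinear (Fin n) F
    rw [mem_specialLinear_iff, mp_det, prod_eq_single a (fun i _ hi => by simp [cc, hi]) (by simp)]
    rw [Equiv.Perm.sign_symm, ← hs]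
    simpa [cc] using hs2⟩ π (blockMap_mp blk _ cc π fun i => by
      rw [← hρ, Equiv.apply_symm_apply])
  have hP' : Pair hf M (ρ a) (ρ b) := by
    intro v hv hvv
    set w : Fin n → F := fun i => v (ρ i) / (cc (ρ i) : F)
    have hw : (h : Matrix (Fin n) (Fin n) F) *ᵥ w = v := funext fun i => by
      rw [mp_apply]
      simp only [w, Equiv.apply_symm_apply]
      rw [mul_div_cancel₀]
      exact (cc i).ne_zero
    have hww : hermForm n F q w w = 0 := by rw [← mem_isoGrp.1 hhi, hw, hvv]
    exact hw ▸ (hP w (fun i h1 h2 => by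
      simp [w, hv (ρ i) (fun e => h1 (ρ.injective e)) (fun e => h2 (ρ.injective e))]) hww).conj hf hww hh hhi
  have hac : blk (ρ a) = blk c := (hρ a).trans hπa
  have hbd : blk (ρ b) = blk d := (hρ b).trans hπb
  rcases eq_or_ne (ρ b) c with h' | hbc
  · exact absurd (h' ▸ hbd) hsame
  refine trans' ?_ (pair_block hσ hS hbd) hcd
  exact trans' (pair_block hσ hS hac.symm) hP' hbc.symm

end

variable [Fintype F]

/-- Overgroups of the block stabiliser. -/
theorem top (hf : Geo.IsUnitaryForm σ (hermForm n F q)) (hF : Fintype.card F = q ^ 2)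
    (hσ : ∀ x, σ x = x ^ q) (hn : 13 ≤ n) (ht : 2 ≤ t) (e : Fin t × Fin k ≃ Fin n)
    (hex : ¬ (k = 2 ∧ q = 2)) {M : Subgroup (GL (Fin n) F)}
    (hMG : M ≤ isoGrp (hermForm n F q) ⊓ Geo.specialLinear (Fin n) F)
    (hS : HasBlocks (hermForm n F q) (fun i => (e.symm i).1) M) {g : GL (Fin n) F} (hg : g ∈ M)
    (hgb : ∀ π, ¬ BlockMap (fun i => (e.symm i).1) g π) :
    GU n F q ⊓ Geo.specialLinear (Fin n) F ≤ M := by
  classical
  set blk : Fin n → Fin t := fun i => (e.symm i).1
  have hM : M ≤ isoGrp (hermForm n F q) := hMG.trans inf_le_left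
  have hph := phases_of_blocks hf hσ hS
  have htk : t * k = n := by simpa using Fintype.card_congr e
  have hblk : ∀ B, #(univ.filter fun i => blk i = B) = k := fun B => by
    rw [← Fintype.card_subtype, Fintype.card_congr
      { toFun := fun i : {i // blk i = B} => (e.symm i.1).2
        invFun := fun j => ⟨e (B, j), by simp [blk]⟩
        left_inv := fun i => Subtype.ext (by
          have h : (e.symm i.1).1 = B := i.2
          simp [← h])
        right_inv := fun j => by simp }, Fintype.card_fin]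
  have hk0 : k ≠ 0 := fun h => by rw [h, mul_zero] at htk; omega
  have hq2 := Unitary.two_le_q hF
  -- from a cross vector to all pairs
  have hcross : ∀ x : Fin n → F, hermForm n F q x x = 0 → UtIn hf M x →
      (∃ a b, blk a ≠ blk b ∧ x a ≠ 0 ∧ x b ≠ 0) → ∀ a b, a ≠ b → Pair hf M a b := by
    intro x hxx hU hx
    obtain ⟨y, hyy, hyU, a, b, e', hab, ha, hb, he⟩ : ∃ y : Fin n → F, hermForm n F q y y = 0 ∧
        UtIn hf M y ∧ ∃ a b e', blk a ≠ blk b ∧ y a ≠ 0 ∧ y b ≠ 0 ∧ y e' = 0 := by
      by_cases hz : ∃ e', x e' = 0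
      · obtain ⟨e', he⟩ := hz
        obtain ⟨a, b, hab, ha, hb⟩ := hx
        exact ⟨x, hxx, hU, a, b, e', hab, ha, hb, he⟩
      push Not at hz
      rcases (show q = 2 ∨ 3 ≤ q by omega) with hq | hq
      · obtain ⟨a, b, hab, ha, hb⟩ := hx
        have hn4 : 4 ≤ #(sp x) := by
          rw [show sp x = univ from Finset.eq_univ_iff_forall.2 fun i => mem_sp.2 (hz i), card_univ,
            Fintype.card_fin]
          omega
        obtain ⟨y, hyy, hyU, hy4, hP, hQ⟩ := shrink hF hq hσ hM hph hn (fun h => hab (congrArg blk h)) _ x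
          rfl hn4 hxx hU (mem_sp.2 ha) (mem_sp.2 hb)
        obtain ⟨e', -, he⟩ := exists_mem_notMem_of_card_lt_card (s := sp y) (t := univ)
          (by rw [card_univ, Fintype.card_fin]; omega)
        exact ⟨y, hyy, hyU, a, b, e', hab, mem_sp.1 hP, mem_sp.1 hQ, notMem_sp.1 he⟩
      · exact down_full hF hσ hq hn hM hph ht htk blk (fun B => (hblk B).le) hxx hU hz
    exact all_pairs hF hσ (by omega) e (fun i => rfl) hM hS hab
      (down_exact hF hσ (by omega) hM hph hyy hyU (fun h => hab (congrArg blk h)) ha hb he)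
  suffices h : ∀ v, hermForm n F q v v = 0 → UtIn hf M v from su_le_of_ut hF (by omega) hσ hf h
  rcases (show k = 1 ∨ 2 ≤ k by omega) with hk1 | hk2
  · -- lines
    obtain ⟨hbij, hMon⟩ := hasMon_of_blocks htk hk1 hblk hS
    have hg' : ¬ Mon g := fun hm => (blockMap_of_mon hbij hm).elim hgb
    rcases (show q = 2 ∨ 3 ≤ q by omega) with hq | hq
    · obtain ⟨h2, nz, -⟩ := four hF hq hσ
      have hall : ∀ a b : Fin n, a ≠ b → Pair hf M a b := by
        intro a b hab v hv hvv l hl
        refine hMon _ ⟨ut_mem_iso hf hvv hl, ut_mem_sl hf v l⟩ fun i => ?_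
        have hrow : ∀ m, ((ut hf v l : Matrix (Fin n) (Fin n) F) *ᵥ Pi.single i 1) m =
            (Pi.single i 1 : Fin n → F) m + l * σ (v i) * v m := fun m => by
          rw [ut_mulVec hf hvv, ← u_conj hf v, herm_single_right' hσ]; simp
        by_cases hz : l * σ (v i) = 0
        · refine single_col (c := 1) (funext fun m => ?_)
          rw [hrow, hz, zero_mul, add_zero, one_smul]
        obtain ⟨hl0, hvi⟩ : l ≠ 0 ∧ v i ≠ 0 := by
          rw [mul_eq_zero, not_or] at hz
          exact ⟨hz.1, by simpa using hz.2⟩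
        have hl1 : l = 1 := by
          have e : l * σ l = 1 := nz l hl0
          rw [hl] at e
          have : (l + 1) * (l + 1) = 0 := by linear_combination (-1) * e + l * h2
          linear_combination mul_self_eq_zero.1 this - h2
        have hia : i = a ∨ i = b := by
          by_contra h
          rw [not_or] at h
          exact hvi (hv i h.1 h.2)
        have key : ∀ m, ((ut hf v l : Matrix (Fin n) (Fin n) F) *ᵥ Pi.single i 1) m ≠ 0 →
            m ≠ i ∧ (m = a ∨ m = b) := by
          intro m hm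
          rw [hrow] at hm
          refine ⟨?_, ?_⟩
          · rintro rfl
            apply hm
            rw [Pi.single_eq_same, hl1]
            linear_combination nz (v m) hvi + h2
          · by_contra h
            rw [not_or] at h
            apply hm
            rw [hv m h.1 h.2, mul_zero, add_zero]
            refine Pi.single_eq_of_ne ?_ 1
            rintro rfl
            rcases hia with e | e
            · exact h.1 e
            · exact h.2 e
        refine card_le_one.2 fun m hm m' hm' => ?_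
        obtain ⟨hmi, hma⟩ := key m (mem_sp.1 hm)
        obtain ⟨hmi', hma'⟩ := key m' (mem_sp.1 hm')
        rcases hia with rfl | rfl <;> rcases hma with rfl | rfl <;> rcases hma' with rfl | rfl <;>
          first
          | rfl
          | exact absurd rfl hmi
          | exact absurd rfl hmi' 
      obtain ⟨a, ha⟩ : ∃ a, ¬ #(sp ((g : Matrix (Fin n) (Fin n) F) *ᵥ Pi.single a 1)) ≤ 1 :=
        not_forall.1 hg'
      exact utIn_all_two hF hq hσ hM hph hn hall hg (a := a) (by omega)
    · obtain ⟨r, hr0, hrr, hrU⟩ := exists_utIn hf hF hσ hq hn hM hph hMon hg hg'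
      obtain ⟨a, ha⟩ : ∃ a, r a ≠ 0 := by
        by_contra h; push Not at h; exact hr0 (funext h)
      obtain ⟨b, hba, hb⟩ : ∃ b, b ≠ a ∧ r b ≠ 0 := by
        by_contra h
        push Not at h
        rw [herm_sum hσ, sum_eq_single a (fun i _ hi => by rw [h i hi, zero_mul]) (by simp)] at hrr
        exact ha (by simpa [map_eq_zero] using hrr)
      exact utIn_all hF hq hσ hM (hcross r hrr hrU ⟨b, a, fun h => hba (hbij.1 h), hb, ha⟩)
  · have hin : ∀ v : Fin n → F, hermForm n F q v v = 0 → (∃ B, ∀ m, blk m ≠ B → v m = 0) →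
        UtIn hf M v := by
      rintro v hvv ⟨B, hB⟩ l hl
      refine hS _ ⟨ut_mem_iso hf hvv hl, ut_mem_sl hf v l⟩ 1 fun i m hm => ?_
      rw [ut_mulVec hf hvv, ← u_conj hf v, herm_single_right' hσ] at hm
      simp only [Pi.add_apply, Pi.smul_apply, smul_eq_mul] at hm
      rcases eq_or_ne m i with rfl | hmi
      · rfl
      rw [Pi.single_eq_of_ne hmi, zero_add] at hm
      show blk m = blk i
      have h1 : v i ≠ 0 := fun h => hm (by simp [h])
      have h2 : v m ≠ 0 := fun h => hm (by simp [h])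
      rw [by_contra fun h => h2 (hB m h), by_contra fun h => h1 (hB i h)]
    obtain ⟨x, hxx, hxU, hx⟩ := exists_cross hf hF hσ hk2 hblk hM hS hg hgb hin
    have hall := hcross x hxx hxU hx
    rcases (show q = 2 ∨ 3 ≤ q by omega) with hq | hq
    · obtain ⟨g', hg', a, ha⟩ := exists_nonmon_block hf hF hq hσ ht
        (by rcases eq_or_lt_of_le hk2 with h | h; exacts [absurd ⟨h.symm, hq⟩ hex, h]) hblk hS
      exact utIn_all_two hF hq hσ hM hph hn hall hg' ha
    · exact utIn_all hF hq hσ hM hall

end Cfsg.Agent.H63.UDec
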