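import Cfsg.Agent.Symplectic.HermBasic
import Cfsg.Agent.H95.Dil
import Mathlib

/-!
Unitary transvections relative to an orthonormal frame and a group containing the phases.
-/

set_option autoImplicit false

namespace Cfsg.Agent.H63.UDec

open scoped MatrixGroups Matrix
open Finset Matrix Cfsg Cfsg.Agent.H95 Cfsg.Agent.Symplectic

variable {F : Type*} [Field F] {n q : ℕ} {σ : F ≃+* F}

/-- The form in coordinates. -/
theorem herm_sum (hσ : ∀ x, σ x = x ^ q) (x y : Fin n → F) :
    hermForm n F q x y = ∑ i, x i * σ (y i) := by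
  simp only [hσ]
  rfl

theorem herm_single_right' (hσ : ∀ x, σ x = x ^ q) (x : Fin n → F) (a : Fin n) :
    hermForm n F q x (Pi.single a 1) = x a := by
  rw [herm_sum hσ, sum_eq_single a (fun i _ hi => by simp [Pi.single_eq_of_ne hi]) (by simp)]
  simp

/-- Phases: norm one everywhere and product one. -/
def Ph (σ : F ≃+* F) (θ : Fin n → F) : Prop := (∀ i, θ i * σ (θ i) = 1) ∧ ∏ i, θ i = 1

/-- `M` contains all phases. -/
def Phases (σ : F ≃+* F) (M : Subgroup (GL (Fin n) F)) : Prop :=
  ∀ θ : Fin n → F, Ph σ θ →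
    ∃ g ∈ M, ∀ x i, ((g : Matrix (Fin n) (Fin n) F) *ᵥ x) i = θ i * x i

/-- the support -/
noncomputable def sp (x : Fin n → F) : Finset (Fin n) :=
  letI := Classical.decEq F
  univ.filter fun i => x i ≠ 0

theorem mem_sp {x : Fin n → F} {i : Fin n} : i ∈ sp x ↔ x i ≠ 0 := by
  simp [sp]

theorem notMem_sp {x : Fin n → F} {i : Fin n} : i ∉ sp x ↔ x i = 0 := by
  simp [sp]

/-- Phases supported on three coordinates. -/
theorem ph_three (hl0 : ∀ x : F, x * σ x = 1 → x ≠ 0) {a b e : Fin n} (hab : a ≠ b) (hae : a ≠ e)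
    (hbe : b ≠ e) {l m : F} (hl : l * σ l = 1) (hm : m * σ m = 1) :
    ∃ θ : Fin n → F, Ph σ θ ∧ θ a = l ∧ θ b = m ∧ θ e = (l * m)⁻¹ ∧
      ∀ i, i ≠ a → i ≠ b → i ≠ e → θ i = 1 := by
  classical
  refine ⟨fun i => if i = a then l else if i = b then m else if i = e then (l * m)⁻¹ else 1,
    ⟨fun i => ?_, ?_⟩, by simp, by simp [hab.symm], by simp [hae.symm, hbe.symm],
    fun i h1 h2 h3 => by simp [h1, h2, h3]⟩
  · dsimp only
    split_ifs
    · exact hl
    · exact hm
    · rw [map_inv₀, map_mul, ← mul_inv, show l * m * (σ l * σ m) = l * σ l * (m * σ m) by ring, hl,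
        hm, mul_one, inv_one]
    · rw [map_one, mul_one]
  · rw [← prod_subset (subset_univ ({a, b, e} : Finset (Fin n))) (fun i _ hi => by
      simp only [mem_insert, Finset.mem_singleton, not_or] at hi
      simp [hi.1, hi.2.1, hi.2.2])]
    rw [prod_insert (by simp [hab, hae]), prod_insert (by simp [hbe]), prod_singleton]
    simp only [↓reduceIte, hab.symm, hae.symm, hbe.symm]
    rw [← mul_assoc, mul_inv_cancel₀]
    exact mul_ne_zero (hl0 l hl) (hm |> hl0 m)

theorem ne_zero_of_norm {x : F} (h : x * σ x = 1) : x ≠ 0 := by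
  rintro rfl
  simp at h

/-- all isotropic vectors on the coordinates `a`, `b` carry their transvections -/
def Pair (hf : Geo.IsUnitaryForm σ (hermForm n F q)) (M : Subgroup (GL (Fin n) F)) (a b : Fin n) :
    Prop :=
  ∀ v : Fin n → F, (∀ i, i ≠ a → i ≠ b → v i = 0) → hermForm n F q v v = 0 → UtIn hf M v

variable {hf : Geo.IsUnitaryForm σ (hermForm n F q)} {M : Subgroup (GL (Fin n) F)}

theorem Pair.symm {a b : Fin n} (h : Pair hf M a b) : Pair hf M b a :=
  fun v hv => h v fun i h1 h2 => hv i h2 h1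

theorem utIn_zero : UtIn hf M (0 : Fin n → F) := fun l _ => by
  have h : hermForm n F q 0 0 = 0 := u_zero_left hf 0
  convert M.one_mem
  exact gl_ext fun x => by rw [ut_mulVec hf h]; simp

theorem norm_two (hσ : ∀ x, σ x = x ^ q) {v : Fin n → F} {a b : Fin n} (hab : a ≠ b)
    (hv : ∀ i, i ≠ a → i ≠ b → v i = 0) (w : Fin n → F) :
    hermForm n F q v w = v a * σ (w a) + v b * σ (w b) := by
  rw [herm_sum hσ]
  exact sum_eq_add a b hab (fun i _ hi => by rw [hv i hi.1 hi.2, zero_mul]) (by simp) (by simp)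

variable [Fintype F]

/-- One vector on a pair gives all. -/
theorem pair_of_one (hσ : ∀ x, σ x = x ^ q) (hn : 3 ≤ n) (hM : M ≤ isoGrp (hermForm n F q))
    (hph : Phases σ M) {a b : Fin n} (hab : a ≠ b) {v : Fin n → F}
    (hv : ∀ i, i ≠ a → i ≠ b → v i = 0) (hvv : hermForm n F q v v = 0) (ha : v a ≠ 0)
    (hU : UtIn hf M v) : Pair hf M a b := by
  classical
  intro w hw hww
  obtain ⟨e, -, he⟩ := exists_mem_notMem_of_card_lt_card (s := ({a, b} : Finset (Fin n))) (t := univ)
    (by rw [card_univ, Fintype.card_fin]; exact lt_of_le_of_lt card_le_two (by omega))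
  simp only [mem_insert, Finset.mem_singleton, not_or] at he
  have nv : v a * σ (v a) + v b * σ (v b) = 0 := by rw [← norm_two hσ hab hv v, hvv]
  have nw : w a * σ (w a) + w b * σ (w b) = 0 := by rw [← norm_two hσ hab hw w, hww]
  have hvb : v b ≠ 0 := fun h => ha (by simpa [h, map_eq_zero] using nv)
  have hσa : σ (v a) ≠ 0 := by simpa using ha
  have hσb : σ (v b) ≠ 0 := by simpa using hvb
  rcases eq_or_ne (w a) 0 with hwa | hwa
  · have hwb : w b = 0 := by simpa [hwa, map_eq_zero] using nw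
    have : w = 0 := funext fun i => by
      rcases eq_or_ne i a with rfl | h1
      · exact hwa
      rcases eq_or_ne i b with rfl | h2
      · exact hwb
      exact hw i h1 h2
    rw [this]
    exact utIn_zero
  have hσwa : σ (w a) ≠ 0 := by simpa using hwa
  set c := w a / v a
  set m := w b / (c * v b)
  have hc0 : c ≠ 0 := div_ne_zero hwa ha
  have hm : m * σ m = 1 := by
    simp only [m, c, map_div₀, map_mul]
    field_simp
    linear_combination (v a * σ (v a)) * nw - (w a * σ (w a)) * nv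
  obtain ⟨θ, hθ, θa, θb, -, -⟩ := ph_three (fun _ h => ne_zero_of_norm h) hab (Ne.symm he.1)
    (Ne.symm he.2) (l := 1) (by simp) hm
  obtain ⟨g, hg, hgx⟩ := hph θ hθ
  have e1 : w = c • ((g : Matrix (Fin n) (Fin n) F) *ᵥ v) := by
    funext i
    simp only [Pi.smul_apply, smul_eq_mul, hgx]
    rcases eq_or_ne i a with rfl | h1
    · rw [θa, one_mul, div_mul_cancel₀ _ ha]
    rcases eq_or_ne i b with rfl | h2
    · rw [θb]
      simp only [m]
      field_simp
    rw [hv i h1 h2, hw i h1 h2]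
    ring
  rw [e1]
  exact UtIn.smul hf (by rw [mem_isoGrp.1 (hM hg), hvv]) (hU.conj hf hvv hg (hM hg)) c

/-- Subtracting a phase image. -/
theorem step (hσ : ∀ x, σ x = x ^ q) (hM : M ≤ isoGrp (hermForm n F q))
    (hph : Phases σ M) {x : Fin n → F} (hxx : hermForm n F q x x = 0) (hU : UtIn hf M x)
    {θ : Fin n → F} (hθ : Ph σ θ) {z : F} (hz : z = ∑ i, θ i * (x i * σ (x i))) (hz0 : z ≠ 0)
    {c : F} (hc : c * σ z + σ c * z = 0) :
    UtIn hf M (fun i => (θ i - c) * x i) ∧
      hermForm n F q (fun i => (θ i - c) * x i) (fun i => (θ i - c) * x i) = 0 := by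
  obtain ⟨g, hg, hgx⟩ := hph θ hθ
  set x' := (g : Matrix (Fin n) (Fin n) F) *ᵥ x
  have hx' : hermForm n F q x' x' = 0 := by rw [mem_isoGrp.1 (hM hg), hxx]
  have hxx' : hermForm n F q x' x = z := by
    rw [herm_sum hσ, hz]
    exact sum_congr rfl fun i _ => by simp only [x', hgx]; ring
  have hσz : σ z ≠ 0 := by simpa using hz0
  have hl : σ (-(c / z)) = -(-(c / z)) := by
    rw [map_neg, map_div₀]
    field_simp
    linear_combination -hc
  have he : (fun i => (θ i - c) * x i) = (ut hf x (-(c / z)) : Matrix (Fin n) (Fin n) F) *ᵥ x' := by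
    funext i
    rw [ut_mulVec hf hxx, Pi.add_apply, Pi.smul_apply, hxx', smul_eq_mul, show x' i = θ i * x i from
      hgx x i]
    field_simp
    ring
  rw [he]
  exact ⟨(hU.conj hf hxx hg (hM hg)).conj hf hx' (hU _ hl) (ut_mem_iso hf hxx hl),
    by rw [mem_isoGrp.1 (ut_mem_iso hf hxx hl), hx']⟩

/-- elements of norm one -/
noncomputable def cs (σ : F ≃+* F) : Finset F :=
  letI := Classical.decEq F
  univ.filter fun x => x * σ x = 1

theorem mem_cs {x : F} : x ∈ cs σ ↔ x * σ x = 1 := by simp [cs]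

theorem card_cs (hF : Fintype.card F = q ^ 2) (hσ : ∀ x, σ x = x ^ q) : #(cs σ) = q + 1 := by
  classical
  rw [← Unitary.card_norm_eq_one hF, Nat.card_eq_fintype_card, Fintype.card_subtype]
  exact congrArg card (Finset.ext fun x => by simp [mem_cs, hσ])

/-- fixed elements -/
noncomputable def fx (σ : F ≃+* F) : Finset F :=
  letI := Classical.decEq F
  univ.filter fun x => σ x = x

theorem mem_fx {x : F} : x ∈ fx σ ↔ σ x = x := by simp [fx]

theorem card_fx (hF : Fintype.card F = q ^ 2) (hσ : ∀ x, σ x = x ^ q) : #(fx σ) = q := by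
  classical
  conv_rhs => rw [← Unitary.card_fixed hF]
  rw [Nat.card_eq_fintype_card, Fintype.card_subtype]
  exact congrArg card (Finset.ext fun x => by simp [mem_fx, hσ])

/-- two coordinates can cancel in trace -/
theorem exists_pair (hF : Fintype.card F = q ^ 2) (hσ : ∀ x, σ x = x ^ q) (hinv : ∀ x, σ (σ x) = x)
    {a b : F} (ha : σ a = a) (hb : σ b = b) (ha0 : a ≠ 0) (hb0 : b ≠ 0) :
    ∃ l m : F, l * σ l = 1 ∧ m * σ m = 1 ∧ l ≠ 1 ∧ m ≠ 1 ∧
      (a * (l - 1) + b * (m - 1)) + σ (a * (l - 1) + b * (m - 1)) = 0 ∧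
      a * (l - 1) + b * (m - 1) ≠ 0 := by
  classical
  have hq := Unitary.two_le_q hF
  have hne : ∀ l : F, l * σ l = 1 → l ≠ 1 → 2 - l - σ l ≠ 0 := by
    intro l hl hl1 h
    exact hl1 (sub_eq_zero.1 (sq_eq_zero_iff.1 (by linear_combination (-l) * h - hl)))
  set C := (cs σ).erase 1
  have hC : #C = q := by
    rw [card_erase_of_mem (mem_cs.2 (by simp)), card_cs hF hσ]; rfl
  have key : ∀ r : F, σ r = r → r ≠ 0 →
      (C.image fun l => r * (2 - l - σ l)) ⊆ (fx σ).erase 0 ∧
        q ≤ 2 * #(C.image fun l => r * (2 - l - σ l)) := by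
    intro r hr hr0
    refine ⟨fun y hy => ?_, ?_⟩
    · obtain ⟨l, hl, rfl⟩ := mem_image.1 hy
      obtain ⟨hl1, hl⟩ := mem_erase.1 hl
      refine mem_erase.2 ⟨mul_ne_zero hr0 (hne l (mem_cs.1 hl) hl1), mem_fx.2 ?_⟩
      simp only [map_mul, map_sub, hr, hinv, map_ofNat]
      ring
    · rw [← hC]
      refine card_le_mul_card_image _ 2 fun y hy => ?_
      obtain ⟨l, hl, rfl⟩ := mem_image.1 hy
      refine (card_le_card (t := {l, σ l}) fun m hm => ?_).trans card_le_two
      obtain ⟨hm, he⟩ := mem_filter.1 hm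
      have h1 := mem_cs.1 (mem_of_mem_erase hl)
      have h2 := mem_cs.1 (mem_of_mem_erase hm)
      have he' : m + σ m = l + σ l := by linear_combination -(mul_left_cancel₀ hr0 he)
      have h3 : (m - l) * (m - σ l) = 0 := by linear_combination m * he' - h2 + h1
      rcases mul_eq_zero.1 h3 with h | h
      · simp [sub_eq_zero.1 h]
      · simp [sub_eq_zero.1 h]
  obtain ⟨s1, c1⟩ := key a ha ha0
  obtain ⟨s2, c2⟩ := key (-b) (by rw [map_neg, hb]) (neg_ne_zero.2 hb0)
  have hfx : #((fx σ).erase 0) = q - 1 := by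
    rw [card_erase_of_mem (mem_fx.2 (map_zero σ)), card_fx hF hσ]
  obtain ⟨y, hy⟩ := inter_nonempty_of_card_lt_card_add_card s1 s2 (by omega)
  obtain ⟨hy1, hy2⟩ := mem_inter.1 hy
  obtain ⟨l, hl, rfl⟩ := mem_image.1 hy1
  obtain ⟨m, hm, he⟩ := mem_image.1 hy2
  obtain ⟨hl1, hl⟩ := mem_erase.1 hl
  obtain ⟨hm1, hm⟩ := mem_erase.1 hm
  rw [mem_cs] at hl hm
  have htr : ∀ l m : F, (a * (l - 1) + b * (m - 1)) + σ (a * (l - 1) + b * (m - 1)) =
      a * (l + σ l - 2) + b * (m + σ m - 2) := fun l m => by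
    simp only [map_add, map_mul, map_sub, map_one, ha, hb]; ring
  by_cases h0 : a * (l - 1) + b * (m - 1) = 0
  · by_cases hm' : σ m = m
    · by_cases hl' : σ l = l
      · -- both equal to minus one
        have hl2 : l = -1 := by
          rcases mul_eq_zero.1 (show (l - 1) * (l + 1) = 0 by rw [hl'] at hl; linear_combination hl)
            with h | h
          · exact absurd (sub_eq_zero.1 h) hl1
          · linear_combination h
        have hm2 : m = -1 := by
          rcases mul_eq_zero.1 (show (m - 1) * (m + 1) = 0 by rw [hm'] at hm; linear_combination hm)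
            with h | h
          · exact absurd (sub_eq_zero.1 h) hm1
          · linear_combination h
        have h2 : (2 : F) ≠ 0 := fun h => hl1 (by linear_combination hl2 + (-1) * h)
        have hab : a + b = 0 := by
          refine (mul_eq_zero.1 (show (-2 : F) * (a + b) = 0 by
            rw [hl2, hm2] at h0; linear_combination h0)).resolve_left (neg_ne_zero.2 h2)
        obtain ⟨l0, hl0, hl0'⟩ := exists_mem_notMem_of_card_lt_card (s := ({1, -1} : Finset F))
          (t := cs σ) (by rw [card_cs hF hσ]; exact lt_of_le_of_lt card_le_two (by omega))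
        rw [mem_cs] at hl0
        simp only [mem_insert, Finset.mem_singleton, not_or] at hl0'
        have hne0 : σ l0 ≠ l0 := fun h => by
          rcases mul_eq_zero.1 (show (l0 - 1) * (l0 + 1) = 0 by rw [h] at hl0; linear_combination hl0)
            with h | h
          · exact hl0'.1 (sub_eq_zero.1 h)
          · exact hl0'.2 (by linear_combination h)
        refine ⟨l0, σ l0, hl0, by rw [hinv, mul_comm]; exact hl0, hl0'.1,
          fun h => hl0'.1 (by rw [← hinv l0, h, map_one]), ?_, ?_⟩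
        · rw [htr, hinv]; linear_combination (l0 + σ l0 - 2) * hab
        · intro h
          refine hne0 ?_
          have : a * (l0 - σ l0) = 0 := by linear_combination h - (σ l0 - 1) * hab
          exact (sub_eq_zero.1 ((mul_eq_zero.1 this).resolve_left ha0)).symm
      · refine ⟨σ l, m, by rw [hinv, mul_comm]; exact hl, hm,
          fun h => hl1 (by rw [← hinv l, h, map_one]), hm1, ?_, fun h => ?_⟩
        · rw [htr, hinv]; linear_combination he
        · have : a * (σ l - l) = 0 := by linear_combination h - h0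
          exact hl' (sub_eq_zero.1 ((mul_eq_zero.1 this).resolve_left ha0))
    · refine ⟨l, σ m, hl, by rw [hinv, mul_comm]; exact hm, hl1,
        fun h => hm1 (by rw [← hinv m, h, map_one]), ?_, fun h => ?_⟩
      · rw [htr, hinv]; linear_combination he
      · have : b * (σ m - m) = 0 := by linear_combination h - h0
        exact hm' (sub_eq_zero.1 ((mul_eq_zero.1 this).resolve_left hb0))
  · exact ⟨l, m, hl, hm, hl1, hm1, by rw [htr]; linear_combination he, h0⟩

/-- From a vector with a zero to any pair in its support. -/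
theorem down_exact (hF : Fintype.card F = q ^ 2) (hσ : ∀ x, σ x = x ^ q) (hn : 3 ≤ n)
    (hM : M ≤ isoGrp (hermForm n F q)) (hph : Phases σ M) {x : Fin n → F}
    (hxx : hermForm n F q x x = 0) (hU : UtIn hf M x) {a b e : Fin n} (hab : a ≠ b)
    (ha : x a ≠ 0) (hb : x b ≠ 0) (he : x e = 0) : Pair hf M a b := by
  classical
  have hinv : ∀ x, σ (σ x) = x := u_inv hf
  have hae : a ≠ e := fun h => ha (h ▸ he)
  have hbe : b ≠ e := fun h => hb (h ▸ he)
  have hfix : ∀ i, σ (x i * σ (x i)) = x i * σ (x i) := fun i => by rw [map_mul, hinv, mul_comm]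
  obtain ⟨l, m, hl, hm, hl1, hm1, htr, hne⟩ := exists_pair hF hσ hinv (hfix a) (hfix b)
    (mul_ne_zero ha (by simpa using ha)) (mul_ne_zero hb (by simpa using hb))
  obtain ⟨θ, hθ, θa, θb, -, θi⟩ := ph_three (fun _ h => ne_zero_of_norm h) hab hae hbe hl hm
  set z := ∑ i, θ i * (x i * σ (x i)) with hz
  have hzval : z = x a * σ (x a) * (l - 1) + x b * σ (x b) * (m - 1) := by
    have h0 : ∑ i, x i * σ (x i) = 0 := by rw [← herm_sum hσ, hxx]
    rw [hz, ← sub_zero (∑ i, θ i * _), ← h0, ← sum_sub_distrib,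
      sum_eq_add a b hab (fun i _ hi => ?_) (by simp) (by simp), θa, θb]
    · ring
    · rcases eq_or_ne i e with rfl | hie
      · rw [he]; ring
      · rw [θi i hi.1 hi.2 hie]; ring
  obtain ⟨hy, hyy⟩ := step hσ hM hph hxx hU hθ hz (hzval ▸ hne) (c := 1)
    (by rw [map_one, one_mul, one_mul, hzval, add_comm]; exact htr)
  refine pair_of_one hσ hn hM hph hab (fun i h1 h2 => ?_) hyy ?_ hy
  · rcases eq_or_ne i e with rfl | hie
    · simp [he]
    · simp [θi i h1 h2 hie]
  · simp [θa, sub_eq_zero, hl1, ha]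

/-- Pairs form a transitive relation. -/
theorem Pair.trans (hF : Fintype.card F = q ^ 2) (hσ : ∀ x, σ x = x ^ q) (hn : 4 ≤ n)
    (hM : M ≤ isoGrp (hermForm n F q)) (hph : Phases σ M) {a b c : Fin n} (hab : a ≠ b)
    (hbc : b ≠ c) (hac : a ≠ c) (h1 : Pair hf M a b) (h2 : Pair hf M b c) : Pair hf M a c := by
  classical
  obtain ⟨ρ, hρ⟩ := Unitary.exists_norm_eq_neg_one hF
  rw [← hσ] at hρ
  obtain ⟨l, hl0, hl, hlchar⟩ : ∃ l : F, l ≠ 0 ∧ σ l = -l ∧ ((2 : F) = 0 → l = 1) := by
    by_cases h : (2 : F) = 0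
    · exact ⟨1, one_ne_zero, by rw [map_one]; linear_combination h, fun _ => rfl⟩
    · obtain ⟨l, h0, hl⟩ := exists_skew_ne_zero hf
      exact ⟨l, h0, hl, fun h' => absurd h' h⟩
  have hρ0 : ρ ≠ 0 := by rintro rfl; simp at hρ
  let v : Fin n → F := fun i => if i = a then 1 else if i = b then ρ else 0
  let w : Fin n → F := fun i => if i = b then 1 else if i = c then ρ else 0
  have hv : ∀ i, i ≠ a → i ≠ b → v i = 0 := fun i h h' => by simp [v, h, h']
  have hw : ∀ i, i ≠ b → i ≠ c → w i = 0 := fun i h h' => by simp [w, h, h']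
  have hvv : hermForm n F q v v = 0 := by
    rw [norm_two hσ hab hv]; simp [v, hab.symm, hρ]
  have hww : hermForm n F q w w = 0 := by
    rw [norm_two hσ hbc hw]; simp [w, hbc.symm, hρ]
  have hvw : hermForm n F q v w = ρ := by
    rw [norm_two hσ hab hv]; simp [v, w, hab, hac, hab.symm]
  have hU := (h1 v hv hvv).conj hf hvv (h2 w hw hww l hl) (ut_mem_iso hf hww hl)
  set x := (ut hf w l : Matrix (Fin n) (Fin n) F) *ᵥ v with hx
  have hxx : hermForm n F q x x = 0 := by rw [hx, mem_isoGrp.1 (ut_mem_iso hf hww hl), hvv]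
  have hxi : ∀ i, x i = v i + l * ρ * w i := fun i => by
    rw [hx, ut_mulVec hf hww, hvw]; simp
  have hxa : x a ≠ 0 := by simp [hxi, v, w, hab, hac]
  have hxc : x c ≠ 0 := by simp [hxi, v, w, hac.symm, hbc.symm, hl0, hρ0]
  have hxo : ∀ i, i ≠ a → i ≠ b → i ≠ c → x i = 0 := fun i h h' h'' => by
    rw [hxi, hv i h h', hw i h' h'']; ring
  by_cases hxb : x b = 0
  · refine pair_of_one hσ (by omega) hM hph hac (fun i h h' => ?_) hxx hxa hU
    rcases eq_or_ne i b with rfl | hib
    · exact hxb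
    · exact hxo i h hib h'
  · obtain ⟨e, -, he⟩ := exists_mem_notMem_of_card_lt_card (s := ({a, b, c} : Finset (Fin n)))
      (t := univ) (by rw [card_univ, Fintype.card_fin]; exact lt_of_le_of_lt card_le_three (by omega))
    simp only [mem_insert, Finset.mem_singleton, not_or] at he
    exact down_exact hF hσ (by omega) hM hph hxx hU hac hxa hxc (hxo e he.1 he.2.1 he.2.2)

end Cfsg.Agent.H63.UDec
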