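import Cfsg.Agent.H63.UDec.Basic
import Cfsg.Agent.Symplectic.HermSubBasic

/-!
An element of the group fixing an axis and not monomial gives a transvection.
-/

set_option autoImplicit false

namespace Cfsg.Agent.H63.UDec

open scoped MatrixGroups Matrix
open Finset Matrix Cfsg Cfsg.Agent.H95 Cfsg.Agent.Symplectic

variable {F : Type*} [Field F] {n q : ℕ} {σ : F ≃+* F}
  {hf : Geo.IsUnitaryForm σ (hermForm n F q)} {M : Subgroup (GL (Fin n) F)}

/-- monomial elements -/
def Mon (g : GL (Fin n) F) : Prop :=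
  ∀ i, #(sp ((g : Matrix (Fin n) (Fin n) F) *ᵥ Pi.single i 1)) ≤ 1

/-- a non-monomial element with a monomial column -/
def GOne (M : Subgroup (GL (Fin n) F)) : Prop :=
  ∃ y ∈ M, ¬ Mon y ∧ ∃ j, #(sp ((y : Matrix (Fin n) (Fin n) F) *ᵥ Pi.single j 1)) ≤ 1

/-- `M` contains the monomial elements of `SU`. -/
def HasMon (f : (Fin n → F) → (Fin n → F) → F) (M : Subgroup (GL (Fin n) F)) : Prop :=
  ∀ h ∈ isoGrp f ⊓ Geo.specialLinear (Fin n) F, Mon h → h ∈ M

/-- Entries of the inverse. -/
theorem entry_inv (hf : Geo.IsUnitaryForm σ (hermForm n F q)) (hσ : ∀ x, σ x = x ^ q)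
    {y : GL (Fin n) F} (hy : y ∈ isoGrp (hermForm n F q)) (i z : Fin n) :
    (((y⁻¹ : GL (Fin n) F) : Matrix (Fin n) (Fin n) F) *ᵥ Pi.single z 1) i =
      σ (((y : Matrix (Fin n) (Fin n) F) *ᵥ Pi.single i 1) z) := by
  rw [← herm_single_right' hσ (_ *ᵥ Pi.single z 1) i,
    ← herm_single_right' hσ ((y : Matrix (Fin n) (Fin n) F) *ᵥ Pi.single i 1) z, u_conj hf]
  conv_lhs => rw [← mem_isoGrp.1 hy]
  rw [mulVec_inv_mulVec]

theorem mp_mon (π : Equiv.Perm (Fin n)) (c : Fin n → Fˣ) : Mon (mp π c) := fun j => by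
  obtain ⟨i, hi⟩ := π.surjective j
  refine (card_le_card (t := {i}) fun m hm => ?_).trans (card_singleton _).le
  rw [mem_sp, mp_single π c hi] at hm
  by_contra h
  rw [Finset.mem_singleton] at h
  exact hm (by simp [h])

theorem mp_iso (hf : Geo.IsUnitaryForm σ (hermForm n F q)) (hσ : ∀ x, σ x = x ^ q)
    (π : Equiv.Perm (Fin n)) {c : Fin n → Fˣ} (hc : ∀ i, (c i : F) * σ (c i) = 1) :
    mp π c ∈ isoGrp (hermForm n F q) := by
  rw [mem_isoGrp]
  intro u v
  rw [herm_sum hσ, herm_sum hσ]
  simp only [mp_apply, map_mul]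
  refine Fintype.sum_equiv π _ _ fun i => ?_
  linear_combination (u (π i) * σ (v (π i))) * hc i

/-- Phases with one compensating coordinate. -/
theorem ph_fix {r : Fin n → F} (hr : ∀ i, r i * σ (r i) = 1) (e : Fin n) :
    ∃ θ : Fin n → F, Ph σ θ ∧ ∀ i, i ≠ e → θ i = r i := by
  classical
  set P := ∏ i ∈ univ.erase e, r i
  refine ⟨Function.update r e P⁻¹, ⟨fun i => ?_, ?_⟩, fun i hi => Function.update_of_ne hi _ _⟩
  · rcases eq_or_ne i e with rfl | hi
    · rw [Function.update_self, map_inv₀, ← mul_inv]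
      simp only [P, map_prod, ← prod_mul_distrib, hr, prod_const_one, inv_one]
    · rw [Function.update_of_ne hi]; exact hr i
  · rw [← mul_prod_erase univ _ (mem_univ e), Function.update_self,
      prod_congr rfl fun i hi => Function.update_of_ne (mem_erase.1 hi).1 _ _]
    exact inv_mul_cancel₀ (prod_ne_zero_iff.2 fun i _ => ne_zero_of_norm (hr i))

/-- a reflection at `u` compensated at the axis `z` -/
def Refl (σ : F ≃+* F) (f : (Fin n → F) → (Fin n → F) → F) (M : Subgroup (GL (Fin n) F))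
    (u : Fin n → F) (z : Fin n) : Prop :=
  ∀ l : F, l * σ l = 1 → ∃ h ∈ M, h ∈ isoGrp f ∧ ∀ x,
    (h : Matrix (Fin n) (Fin n) F) *ᵥ x =
      x + ((l - 1) * f x u) • u + ((l⁻¹ - 1) * f x (Pi.single z 1)) • Pi.single z 1

theorem Refl.conj (hf : Geo.IsUnitaryForm σ (hermForm n F q)) {u : Fin n → F} {z : Fin n}
    (h : Refl σ (hermForm n F q) M u z) {g : GL (Fin n) F} (hg : g ∈ M)
    (hgi : g ∈ isoGrp (hermForm n F q)) {c : F}
    (hgz : (g : Matrix (Fin n) (Fin n) F) *ᵥ Pi.single z 1 = c • Pi.single z 1)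
    (hc : c * σ c = 1) : Refl σ (hermForm n F q) M ((g : Matrix (Fin n) (Fin n) F) *ᵥ u) z := by
  intro l hl
  obtain ⟨k, hk, hki, hkx⟩ := h l hl
  refine ⟨g * k * g⁻¹, M.mul_mem (M.mul_mem hg hk) (M.inv_mem hg),
    Subgroup.mul_mem _ (Subgroup.mul_mem _ hgi hki) (Subgroup.inv_mem _ hgi), fun x => ?_⟩
  set x' := ((g⁻¹ : GL (Fin n) F) : Matrix (Fin n) (Fin n) F) *ᵥ x
  have e : ∀ v, hermForm n F q x' v = hermForm n F q x ((g : Matrix (Fin n) (Fin n) F) *ᵥ v) :=
    fun v => by rw [← mem_isoGrp.1 hgi, mulVec_inv_mulVec]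
  rw [mul_mulVec, mul_mulVec, hkx, mulVec_add, mulVec_add, mulVec_smul, mulVec_smul,
    mulVec_inv_mulVec, e, e, hgz, u_smul_right hf, smul_smul]
  congr 2
  linear_combination ((l⁻¹ - 1) * hermForm n F q x (Pi.single z 1)) * hc

variable [Fintype F]

/-- Reflections from a non-monomial element with a monomial column. -/
theorem refl_of_gOne (hσ : ∀ x, σ x = x ^ q) (hM : M ≤ isoGrp (hermForm n F q))
    (hph : Phases σ M) (hf : Geo.IsUnitaryForm σ (hermForm n F q)) (h : GOne M) :
    ∃ u : Fin n → F, ∃ z, u z = 0 ∧ hermForm n F q u u = 1 ∧ 2 ≤ #(sp u) ∧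
      Refl σ (hermForm n F q) M u z := by
  classical
  obtain ⟨y, hy, hmon, j, hj⟩ := h
  set col : Fin n → Fin n → F := fun b => (y : Matrix (Fin n) (Fin n) F) *ᵥ Pi.single b 1
  obtain ⟨i, hi⟩ : ∃ i, ¬ #(sp (col i)) ≤ 1 := not_forall.1 hmon
  have hcol : ∀ a b, hermForm n F q (col a) (col b) = if a = b then 1 else 0 := fun a b => by
    rw [mem_isoGrp.1 (hM hy), herm_single_right' hσ, Pi.single_apply]
    simp [eq_comm]
  have hij : i ≠ j := fun h => hi (h ▸ hj)
  obtain ⟨z, hz⟩ : ∃ z, col j z ≠ 0 := by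
    by_contra h
    push Not at h
    have := hcol j j
    rw [show col j = 0 from funext h, u_zero_left hf, if_pos rfl] at this
    exact zero_ne_one this
  have hje : col j = col j z • Pi.single z 1 := by
    funext m
    rcases eq_or_ne m z with rfl | hm
    · simp
    · have : col j m = 0 := by
        by_contra hne
        exact hm (card_le_one.1 hj m (mem_sp.2 hne) z (mem_sp.2 hz))
      simp [this, hm]
  have hc : col j z * σ (col j z) = 1 := by
    have := hcol j j
    rw [hje, u_smul_left hf, u_smul_right hf, herm_single_right' hσ, Pi.single_eq_same,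
      if_pos rfl] at this
    simpa using this
  refine ⟨col i, z, ?_, by rw [hcol, if_pos rfl], by omega, fun l hl => ?_⟩
  · have := hcol i j
    rw [if_neg hij, hje, u_smul_right hf, herm_single_right' hσ] at this
    exact (mul_eq_zero.1 this).resolve_left (by simpa using hz)
  obtain ⟨θ, hθ, hθi⟩ := ph_fix (σ := σ) (r := fun m => if m = i then l else 1)
    (fun m => by split_ifs; exacts [hl, by simp]) j
  have hθj : θ j = l⁻¹ := by
    have h := hθ.2
    rw [← mul_prod_erase univ _ (mem_univ j), prod_congr rfl fun m hm => hθi m (mem_erase.1 hm).1,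
      prod_ite_eq' (univ.erase j) i, if_pos (mem_erase.2 ⟨hij, mem_univ i⟩)] at h
    exact eq_inv_of_mul_eq_one_left h
  obtain ⟨g, hg, hgx⟩ := hph θ hθ
  refine ⟨y * g * y⁻¹, M.mul_mem (M.mul_mem hy hg) (M.inv_mem hy),
    hM (M.mul_mem (M.mul_mem hy hg) (M.inv_mem hy)), fun x => ?_⟩
  set x' := ((y⁻¹ : GL (Fin n) F) : Matrix (Fin n) (Fin n) F) *ᵥ x
  have hgx' : (g : Matrix (Fin n) (Fin n) F) *ᵥ x' =
      x' + ((l - 1) * x' i) • Pi.single i 1 + ((l⁻¹ - 1) * x' j) • Pi.single j 1 := by
    funext m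
    rw [hgx]
    simp only [Pi.add_apply, Pi.smul_apply, smul_eq_mul, Pi.single_apply]
    rcases eq_or_ne m j with rfl | hmj
    · simp [hθj, hij.symm]; ring
    rw [hθi m hmj]
    rcases eq_or_ne m i with rfl | hmi
    · simp [hij]; ring
    · simp [hmi, hmj]
  have e : ∀ b, x' b = hermForm n F q x (col b) := fun b => by
    rw [← herm_single_right' hσ x' b, ← mem_isoGrp.1 (hM hy), mulVec_inv_mulVec]
  rw [mul_mulVec, mul_mulVec, hgx', mulVec_add, mulVec_add, mulVec_smul, mulVec_smul,
    mulVec_inv_mulVec, e, e]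
  congr 1
  show _ • col j = _
  rw [hje, u_smul_right hf, smul_smul]
  congr 1
  linear_combination ((l⁻¹ - 1) * hermForm n F q x (Pi.single z 1)) * hc

/-- Weight at least three. -/
theorem refl_three (hF : Fintype.card F = q ^ 2) (hq : 3 ≤ q) (hσ : ∀ x, σ x = x ^ q) (hn : 4 ≤ n)
    (hS : HasMon (hermForm n F q) M) (hf : Geo.IsUnitaryForm σ (hermForm n F q))
    {u : Fin n → F} {z : Fin n} (huz : u z = 0) (huu : hermForm n F q u u = 1) (h2 : 2 ≤ #(sp u))
    (hR : Refl σ (hermForm n F q) M u z) :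
    ∃ u : Fin n → F, ∃ a b c z, a ≠ b ∧ a ≠ c ∧ b ≠ c ∧ u a ≠ 0 ∧ u b ≠ 0 ∧ u c ≠ 0 ∧ u z = 0 ∧
      hermForm n F q u u = 1 ∧ Refl σ (hermForm n F q) M u z := by
  classical
  rcases eq_or_lt_of_le h2 with h | h
  swap
  · obtain ⟨a, b, c, ha, hb, hc, hab, hac, hbc⟩ := two_lt_card_iff.1 h
    exact ⟨u, a, b, c, z, hab, hac, hbc, mem_sp.1 ha, mem_sp.1 hb, mem_sp.1 hc, huz, huu, hR⟩
  obtain ⟨a, b, hab, hs⟩ := card_eq_two.1 h.symm
  have hua : u a ≠ 0 := mem_sp.1 (by simp [hs])
  have hub : u b ≠ 0 := mem_sp.1 (by simp [hs])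
  have hzero : ∀ i, i ≠ a → i ≠ b → u i = 0 := fun i h1 h2 => notMem_sp.1 (by simp [hs, h1, h2])
  obtain ⟨c, -, hc⟩ := exists_mem_notMem_of_card_lt_card (s := ({a, b, z} : Finset (Fin n)))
    (t := univ) (by rw [card_univ, Fintype.card_fin]; exact lt_of_le_of_lt card_le_three (by omega))
  simp only [mem_insert, Finset.mem_singleton, not_or] at hc
  have haz : a ≠ z := fun h => hua (h ▸ huz)
  have hbz : b ≠ z := fun h => hub (h ▸ huz)
  -- a three-cycle
  set π : Equiv.Perm (Fin n) := Equiv.swap a b * Equiv.swap a c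
  have πa : π a = c := by
    simp [π, Equiv.swap_apply_of_ne_of_ne hc.1 hc.2.1]
  have πb : π b = a := by
    simp [π, Equiv.swap_apply_of_ne_of_ne hab.symm (Ne.symm hc.2.1)]
  have πc : π c = b := by simp [π]
  have πo : ∀ i, i ≠ a → i ≠ b → i ≠ c → π i = i := fun i h1 h2 h3 => by
    simp [π, Equiv.swap_apply_of_ne_of_ne, h1, h2, h3]
  set g := mp π (fun _ => (1 : Fˣ))
  have hgiso : g ∈ isoGrp (hermForm n F q) := mp_iso hf hσ π fun _ => by simp
  have hg : g ∈ M := hS g ⟨hgiso, by
    show g ∈ Geo.specialLinear (Fin n) F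
    rw [mem_specialLinear_iff, mp_det]
    simp [π, hab, Ne.symm hc.1]⟩ (mp_mon _ _)
  have hgz : (g : Matrix (Fin n) (Fin n) F) *ᵥ Pi.single z 1 = (1 : F) • Pi.single z 1 := by
    rw [mp_single π _ (πo z haz.symm hbz.symm (Ne.symm hc.2.2))]
    simp
  have hR2 := hR.conj hf hg hgiso hgz (by simp)
  set u2 := (g : Matrix (Fin n) (Fin n) F) *ᵥ u
  have hu2 : ∀ i, u2 i = u (π i) := fun i => by simp [u2, g, mp_apply]
  have hfu : hermForm n F q u u2 = u b * σ (u a) := by
    rw [norm_two hσ hab hzero, hu2, hu2, πa, πb, hzero c hc.1 hc.2.1]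
    simp
  obtain ⟨l, hl, hl1⟩ := exists_mem_notMem_of_card_lt_card
    (s := ({1, 1 - (u a * σ (u a))⁻¹} : Finset F)) (t := cs σ)
    (by rw [card_cs hF hσ]; exact lt_of_le_of_lt card_le_two (by omega))
  rw [mem_cs] at hl
  simp only [mem_insert, Finset.mem_singleton, not_or] at hl1
  obtain ⟨k, hk, hki, hkx⟩ := hR2 l hl
  have hkz : (k : Matrix (Fin n) (Fin n) F) *ᵥ Pi.single z 1 = l⁻¹ • Pi.single z 1 := by
    have h0 : hermForm n F q (Pi.single z 1) u2 = 0 := by
      rw [← u_conj hf u2, herm_single_right' hσ, hu2, πo z haz.symm hbz.symm (Ne.symm hc.2.2), huz,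
        map_zero]
    rw [hkx, h0, herm_single_right' hσ, Pi.single_eq_same, mul_zero, zero_smul, add_zero, mul_one]
    module
  have hR3 := hR.conj hf hk hki hkz (by rw [map_inv₀, ← mul_inv, hl, inv_one])
  set w := (k : Matrix (Fin n) (Fin n) F) *ᵥ u
  have hw : ∀ i, w i = u i + (l - 1) * (u b * σ (u a)) * u (π i) := fun i => by
    simp only [w, hkx, hfu, herm_single_right' hσ, huz, mul_zero, zero_smul, add_zero, Pi.add_apply,
      Pi.smul_apply, smul_eq_mul, hu2]
  have hl1' : l - 1 ≠ 0 := sub_ne_zero.2 hl1.1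
  refine ⟨w, a, b, c, z, hab, Ne.symm hc.1, Ne.symm hc.2.1, ?_, ?_, ?_, ?_, ?_, hR3⟩
  · rw [hw, πa, hzero c hc.1 hc.2.1, mul_zero, add_zero]; exact hua
  · rw [hw, πb]
    intro h0
    apply hl1.2
    have hN : u a * σ (u a) ≠ 0 := mul_ne_zero hua (by simpa using hua)
    have e : u b * (1 + (l - 1) * (u a * σ (u a))) = 0 := by linear_combination h0
    have e2 := (mul_eq_zero.1 e).resolve_left hub
    linear_combination (u a * σ (u a))⁻¹ * e2 - (l - 1) * inv_mul_cancel₀ hN
  · rw [hw, πc, hzero c hc.1 hc.2.1, zero_add]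
    exact mul_ne_zero (mul_ne_zero hl1' (mul_ne_zero hub (by simpa using hua))) hub
  · rw [hw, πo z haz.symm hbz.symm (Ne.symm hc.2.2), huz]; ring
  · rw [mem_isoGrp.1 hki, huu]

/-- Two degenerate reflections give a transvection. -/
theorem utIn_of_refl (hF : Fintype.card F = q ^ 2) (hq : 3 ≤ q) (hσ : ∀ x, σ x = x ^ q)
    (hph : Phases σ M) (hM : M ≤ isoGrp (hermForm n F q))
    {u : Fin n → F} {a b c z : Fin n} (hab : a ≠ b) (hac : a ≠ c) (hbc : b ≠ c) (ha : u a ≠ 0)
    (hb : u b ≠ 0) (hc : u c ≠ 0) (huz : u z = 0) (huu : hermForm n F q u u = 1)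
    (hR : Refl σ (hermForm n F q) M u z) :
    ∃ r : Fin n → F, r ≠ 0 ∧ hermForm n F q r r = 0 ∧ UtIn hf M r := by
  classical
  set A := u a * σ (u a)
  set B := u b * σ (u b)
  set C := u c * σ (u c)
  have hfix : ∀ x : F, σ (x * σ x) = x * σ x := fun x => by rw [map_mul, u_inv hf, mul_comm]
  have hA : A ≠ 0 := mul_ne_zero ha (by simpa using ha)
  have hB : B ≠ 0 := mul_ne_zero hb (by simpa using hb)
  have hC : C ≠ 0 := mul_ne_zero hc (by simpa using hc)
  -- three phases
  obtain ⟨p, r', t, hp, hr', ht, ht1, hsum⟩ : ∃ p r' t : F, p * σ p = 1 ∧ r' * σ r' = 1 ∧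
      t * σ t = 1 ∧ t ≠ 1 ∧ A * (p - 1) + B * (r' - 1) + C * (t - 1) = 0 := by
    have Af : σ A = A := hfix _
    have Bf : σ B = B := hfix _
    have Cf : σ C = C := hfix _
    set S1 := ((cs σ).erase 1).image fun t => (A + B + C - C * t) * σ (A + B + C - C * t)
    set S2 := (cs σ).image fun m => (A + B * m) * σ (A + B * m)
    have hroot : ∀ D E : F, σ D = D → σ E = E → E ≠ 0 → D ≠ 0 → ∀ l, l * σ l = 1 →
        ∀ m, m * σ m = 1 → (D + E * m) * σ (D + E * m) = (D + E * l) * σ (D + E * l) →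
        m ∈ ({l, σ l} : Finset F) := by
      intro D E hD hE hE0 hD0 l hl m hm he
      simp only [map_add, map_mul, hD, hE] at he
      have h1 : D * E * ((m + σ m) - (l + σ l)) = 0 := by
        linear_combination he - (E * E) * hm + (E * E) * hl
      have h1' := (mul_eq_zero.1 h1).resolve_left (mul_ne_zero hD0 hE0)
      have h2 : (m - l) * (m - σ l) = 0 := by linear_combination m * h1' - hm + hl
      rcases mul_eq_zero.1 h2 with h | h <;> simp [sub_eq_zero.1 h]
    by_cases hD : A + B + C = 0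
    · obtain ⟨t, ht, ht1⟩ := exists_mem_ne (a := (1 : F)) (s := cs σ)
        (by rw [card_cs hF hσ]; omega)
      exact ⟨t, t, t, mem_cs.1 ht, mem_cs.1 ht, mem_cs.1 ht, ht1, by linear_combination (t - 1) * hD⟩
    have hDf : σ (A + B + C) = A + B + C := by simp only [map_add, Af, Bf, Cf]
    have c1 : q ≤ 2 * #S1 := by
      have : #((cs σ).erase 1) = q := by
        rw [card_erase_of_mem (mem_cs.2 (by simp)), card_cs hF hσ]; rfl
      refine this.ge.trans (card_le_mul_card_image _ 2 fun y hy => ?_)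
      obtain ⟨l, hl, rfl⟩ := mem_image.1 hy
      refine (card_le_card (t := {l, σ l}) fun m hm => ?_).trans card_le_two
      obtain ⟨hm, he⟩ := mem_filter.1 hm
      exact hroot (A + B + C) (-C) hDf (by rw [map_neg, Cf]) (neg_ne_zero.2 hC) hD l
        (mem_cs.1 (mem_of_mem_erase hl)) m (mem_cs.1 (mem_of_mem_erase hm))
        (by simpa only [neg_mul, ← sub_eq_add_neg] using he)
    have c2 : q + 1 ≤ 2 * #S2 := by
      refine (card_cs hF hσ).ge.trans (card_le_mul_card_image _ 2 fun y hy => ?_)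
      obtain ⟨l, hl, rfl⟩ := mem_image.1 hy
      refine (card_le_card (t := {l, σ l}) fun m hm => ?_).trans card_le_two
      obtain ⟨hm, he⟩ := mem_filter.1 hm
      exact hroot A B Af Bf hB hA l (mem_cs.1 hl) m (mem_cs.1 hm) he
    have s1 : S1 ⊆ fx σ := fun y hy => by
      obtain ⟨l, -, rfl⟩ := mem_image.1 hy; exact mem_fx.2 (hfix _)
    have s2 : S2 ⊆ fx σ := fun y hy => by
      obtain ⟨l, -, rfl⟩ := mem_image.1 hy; exact mem_fx.2 (hfix _)
    obtain ⟨y, hy⟩ := inter_nonempty_of_card_lt_card_add_card s1 s2 (by rw [card_fx hF hσ]; omega)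
    obtain ⟨hy1, hy2⟩ := mem_inter.1 hy
    obtain ⟨t, ht, rfl⟩ := mem_image.1 hy1
    obtain ⟨m, hm, he⟩ := mem_image.1 hy2
    obtain ⟨ht1, ht⟩ := mem_erase.1 ht
    rw [mem_cs] at ht hm
    set d := A + B + C - C * t
    set d' := A + B * m
    by_cases hd : d' = 0
    · have : d = 0 := by
        rw [hd, zero_mul, eq_comm, mul_eq_zero] at he
        rcases he with h | h
        · exact h
        · simpa using h
      exact ⟨1, m, t, by simp, hm, ht, ht1, by linear_combination hd - this⟩
    set φ := d / d'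
    have hφ : φ * σ φ = 1 := by
      simp only [φ, map_div₀]
      have : σ d' ≠ 0 := by simpa using hd
      field_simp
      linear_combination -he
    refine ⟨φ, φ * m, t, hφ, by rw [map_mul]; linear_combination (φ * σ φ) * hm + hφ, ht, ht1, ?_⟩
    have e : φ * d' = d := div_mul_cancel₀ _ hd
    linear_combination e
  set r0 : Fin n → F := fun i => if i = a then p else if i = b then r' else if i = c then t else 1
  obtain ⟨θ, hθ, hθi⟩ := ph_fix (σ := σ) (r := r0) (fun i => by
    simp only [r0]; split_ifs; exacts [hp, hr', ht, by simp]) z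
  obtain ⟨g, hg, hgx⟩ := hph θ hθ
  have haz : a ≠ z := fun h => ha (h ▸ huz)
  have hbz : b ≠ z := fun h => hb (h ▸ huz)
  have hcz : c ≠ z := fun h => hc (h ▸ huz)
  have hθa : θ a = p := by rw [hθi a haz]; simp [r0]
  have hθb : θ b = r' := by rw [hθi b hbz]; simp [r0, hab.symm]
  have hθc : θ c = t := by rw [hθi c hcz]; simp [r0, hac.symm, hbc.symm]
  set w := (g : Matrix (Fin n) (Fin n) F) *ᵥ u
  have hwu : hermForm n F q w u = 1 := by
    have e0 : hermForm n F q w u - hermForm n F q u u = 0 := by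
      rw [herm_sum hσ, herm_sum hσ, ← sum_sub_distrib,
        ← sum_subset (subset_univ ({a, b, c} : Finset (Fin n))) (fun i _ hi => ?_),
        sum_insert (by simp [hab, hac]), sum_insert (by simp [hbc]), sum_singleton]
      · simp only [w, hgx, hθa, hθb, hθc]
        linear_combination hsum
      · simp only [mem_insert, Finset.mem_singleton, not_or] at hi
        rcases eq_or_ne i z with rfl | hiz
        · simp [w, hgx, huz]
        · simp [w, hgx, hθi i hiz, r0, hi.1, hi.2.1, hi.2.2]
    rw [huu, sub_eq_zero] at e0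
    exact e0
  have huw : hermForm n F q u w = 1 := by rw [← u_conj hf w u, hwu, map_one]
  have hww : hermForm n F q w w = 1 := by rw [mem_isoGrp.1 (hM hg), huu]
  set r := w - u with hrdef
  have hr0 : r ≠ 0 := fun h => by
    have h' := congrFun h c
    simp only [r, w, Pi.sub_apply, hgx, hθc, Pi.zero_apply] at h'
    exact ht1 (mul_right_cancel₀ hc (by linear_combination h'))
  have hrr : hermForm n F q r r = 0 := by
    simp only [r, u_sub_left hf, u_sub_right hf, hww, huu, hwu, huw]; ring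
  have hru : hermForm n F q r u = 0 := by
    simp only [r, u_sub_left hf, hwu, huu, sub_self]
  have hθz : θ z * σ (θ z) = 1 := hθ.1 z
  have hgz : (g : Matrix (Fin n) (Fin n) F) *ᵥ Pi.single z 1 = θ z • Pi.single z 1 := by
    funext i
    rw [hgx]
    rcases eq_or_ne i z with rfl | hi <;> simp [*]
  have hR' : Refl σ (hermForm n F q) M w z := hR.conj hf hg (hM hg) hgz hθz
  have hez : hermForm n F q u (Pi.single z 1) = 0 := by rw [herm_single_right' hσ, huz]
  have hwz : hermForm n F q w (Pi.single z 1) = 0 := by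
    rw [herm_single_right' hσ]; simp [w, hgx, huz]
  have hzz : hermForm n F q (Pi.single z (1 : F)) (Pi.single z 1) = 1 := by
    rw [herm_single_right' hσ, Pi.single_eq_same]
  -- Eichler elements at `r`
  let I : AddSubgroup F :=
    { carrier := {x | ∃ s, EichOK hf r (x • u) s ∧ ue hf r (x • u) s ∈ M}
      add_mem' := fun {x y} ⟨s, h1, m1⟩ ⟨s', h2, m2⟩ => by
        refine ⟨s + s' - hermForm n F q (y • u) (x • u), ?_, ?_⟩ <;> rw [add_smul]
        · exact h1.add hf h2
        · rw [← ue_mul hf h1 h2]; exact M.mul_mem m1 m2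
      zero_mem' := by
        refine ⟨0, ⟨hrr, ?_, ?_⟩, ?_⟩
        · rw [zero_smul, u_zero_left hf]
        · rw [zero_smul, map_zero, add_zero, u_zero_left hf, neg_zero]
        · rw [zero_smul]
          convert M.one_mem
          exact gl_ext fun x => by
            rw [ue_mulVec hf ⟨hrr, u_zero_left hf r, by rw [map_zero, add_zero, u_zero_left hf,
              neg_zero]⟩, u_zero_right hf]
            simp
      neg_mem' := fun {x} ⟨s, h1, m1⟩ => by
        have h2 : EichOK hf r ((-x) • u) (σ s) := by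
          refine ⟨hrr, by rw [neg_smul, u_neg_left hf, h1.2.1, neg_zero], ?_⟩
          rw [u_inv hf, neg_smul, u_neg_left hf, Symplectic.u_neg_right hf]
          linear_combination h1.2.2
        refine ⟨σ s, h2, ?_⟩
        rw [show ue hf r ((-x) • u) (σ s) = (ue hf r (x • u) s)⁻¹ from
          eq_inv_of_mul_eq_one_left (gl_ext fun v => by
            rw [ue_mul hf h2 h1, ue_mulVec hf (h2.add hf h1), neg_smul, neg_add_cancel,
              u_zero_right hf, Units.val_one, one_mulVec, Symplectic.u_neg_right hf]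
            match_scalars <;> first | ring1 | linear_combination -(hermForm n F q v r) * h1.2.2 | linear_combination (hermForm n F q v r) * h1.2.2)]
        exact M.inv_mem m1 }
  have hI : ∀ l : F, l * σ l = 1 → l - 1 ∈ I := by
    intro l hl
    have hl0 := ne_zero_of_norm hl
    have hsl : σ l = l⁻¹ := eq_inv_of_mul_eq_one_right hl
    have hok : EichOK hf r ((l - 1) • u) (l - 1) := by
      refine ⟨hrr, by rw [u_smul_left hf, u_symm_zero hf hru, mul_zero], ?_⟩
      rw [u_smul_left hf, u_smul_right hf, huu, map_sub, map_one]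
      linear_combination hl
    obtain ⟨h1, h1M, -, h1x⟩ := hR' l hl
    obtain ⟨h2, h2M, -, h2x⟩ := hR l⁻¹ (by rw [map_inv₀, ← mul_inv, hl, inv_one])
    refine ⟨l - 1, hok, ?_⟩
    convert M.mul_mem h1M h2M using 1
    refine gl_ext fun x => ?_
    rw [mul_mulVec, h2x, h1x, ue_mulVec hf hok, inv_inv]
    simp only [u_add_left hf, u_smul_left hf, u_smul_right hf, hrdef, u_sub_right hf, huw, hwz,
      map_sub, map_one, hsl, u_symm_zero hf hwz, hez, u_symm_zero hf hez, hzz]
    match_scalars <;> field_simp <;> ring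
  -- the span is everything
  have hgen : ∀ i ∈ AddSubgroup.closure {x : F | ∃ l, l * σ l = 1 ∧ x = l - 1}, i ∈ I := by
    intro i hi
    induction hi using AddSubgroup.closure_induction with
    | mem x hx => obtain ⟨l, hl, rfl⟩ := hx; exact hI l hl
    | zero => exact I.zero_mem
    | add x y _ _ hx hy => exact I.add_mem hx hy
    | neg x _ hx => exact I.neg_mem hx
  set J := AddSubgroup.closure {x : F | ∃ l, l * σ l = 1 ∧ x = l - 1}
  have hJtop : ∀ x : F, x ∈ J := by
    let S : Subfield F :=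
      { carrier := {x | ∀ i ∈ J, x * i ∈ J}
        one_mem' := fun i hi => by rwa [one_mul]
        mul_mem' := fun {x y} hx hy i hi => by rw [mul_assoc]; exact hx _ (hy i hi)
        zero_mem' := fun i hi => by rw [zero_mul]; exact J.zero_mem
        add_mem' := fun {x y} hx hy i hi => by rw [add_mul]; exact J.add_mem (hx i hi) (hy i hi)
        neg_mem' := fun {x} hx i hi => by rw [neg_mul]; exact J.neg_mem (hx i hi)
        inv_mem' := fun x hx i hi => by
          rcases eq_or_ne x 0 with rfl | hx0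
          · rw [_root_.inv_zero, zero_mul]; exact J.zero_mem
          have e : x⁻¹ = x ^ (Fintype.card F - 2) := by
            refine inv_eq_of_mul_eq_one_right ?_
            rw [← pow_succ']
            have : 2 ≤ Fintype.card F := Fintype.one_lt_card
            rw [show Fintype.card F - 2 + 1 = Fintype.card F - 1 by omega]
            exact FiniteField.pow_card_sub_one_eq_one x hx0
          rw [e]
          clear e
          induction (Fintype.card F - 2) generalizing i with
          | zero => simpa using hi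
          | succ m ih => rw [pow_succ, mul_assoc]; exact ih _ (hx i hi) }
    have hCS : ∀ l : F, l * σ l = 1 → l ∈ S := by
      intro l hl i hi
      induction hi using AddSubgroup.closure_induction with
      | mem x hx =>
        obtain ⟨m, hm, rfl⟩ := hx
        rw [show l * (m - 1) = (l * m - 1) - (l - 1) by ring]
        exact J.sub_mem (AddSubgroup.subset_closure ⟨l * m, by
            rw [map_mul]; linear_combination (m * σ m) * hl + hm, rfl⟩)
          (AddSubgroup.subset_closure ⟨l, hl, rfl⟩)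
      | zero => rw [mul_zero]; exact J.zero_mem
      | add x y _ _ hx hy => rw [mul_add]; exact J.add_mem hx hy
      | neg x _ hx => rw [mul_neg]; exact J.neg_mem hx
    have hbig : q + 1 ≤ Nat.card S := by
      rw [← card_cs hF hσ, ← Nat.card_eq_finsetCard]
      exact Nat.card_le_card_of_injective (fun l : cs σ => (⟨l.1, hCS l.1 (mem_cs.1 l.2)⟩ : S))
        fun x y h => Subtype.ext (by simpa using congrArg Subtype.val h)
    haveI : Fintype S := Fintype.ofFinite _
    have hpow := Module.card_eq_pow_finrank (K := S) (V := F)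
    have hd : 0 < Module.finrank S F := Module.finrank_pos
    have hd1 : Module.finrank S F = 1 := by
      by_contra hne
      have h2 : (q + 1) ^ 2 ≤ Fintype.card S ^ Module.finrank S F := by
        rw [Nat.card_eq_fintype_card] at hbig
        exact (Nat.pow_le_pow_left hbig 2).trans (Nat.pow_le_pow_right (by omega) (by omega))
      rw [← hpow, hF] at h2
      nlinarith
    rw [hd1, pow_one] at hpow
    have hall : ∀ x : F, x ∈ S := fun x => by
      obtain ⟨y, hy⟩ := ((Fintype.bijective_iff_injective_and_card (fun y : S => (y : F))).2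
        ⟨Subtype.val_injective, hpow.symm⟩).2 x
      exact hy ▸ y.2
    obtain ⟨l, hl, hl1⟩ := exists_mem_ne (a := (1 : F)) (s := cs σ) (by rw [card_cs hF hσ]; omega)
    intro x
    have := hall (x / (l - 1)) (l - 1) (AddSubgroup.subset_closure ⟨l, mem_cs.1 hl, rfl⟩)
    rwa [div_mul_cancel₀ _ (sub_ne_zero.2 hl1)] at this
  refine ⟨r, hr0, hrr, fun l hl => ?_⟩
  obtain ⟨e, he⟩ := exists_trace_eq hf (s := 1) (map_one σ)
  obtain ⟨s1, ok1, m1⟩ := hgen _ (hJtop (l * e))
  obtain ⟨s2, ok2, m2⟩ := hgen _ (hJtop 1)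
  have key := M.mul_mem (M.inv_mem (M.mul_mem m2 m1)) (M.mul_mem m1 m2)
  convert key using 1
  rw [eq_inv_mul_iff_mul_eq, ue_mul hf ok2 ok1, ue_mul hf ok1 ok2]
  refine gl_ext fun x => ?_
  rw [mul_mulVec, ue_mulVec hf (ok2.add hf ok1), ue_mulVec hf (ok1.add hf ok2), ut_mulVec hf hrr]
  simp only [one_smul, u_add_left hf, u_add_right hf, u_smul_left hf, u_smul_right hf, hrr, hru,
    huu, map_mul, hl]
  match_scalars <;> first | ring1 | linear_combination -(hermForm n F q x r * l) * he | linear_combination (hermForm n F q x r * l) * he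

end Cfsg.Agent.H63.UDec
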