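import Cfsg.Agent.H63.UDec.OneGen
import Cfsg.Agent.H63.UDec.Full

/-!
An overgroup of the monomial group has a non-monomial element with a monomial column.
-/

set_option autoImplicit false

namespace Cfsg.Agent.H63.UDec

open scoped MatrixGroups Matrix
open Finset Matrix Cfsg Cfsg.Agent.H95 Cfsg.Agent.Symplectic

variable {F : Type*} [Field F] [Fintype F] {n q : ℕ} {σ : F ≃+* F}
  {hf : Geo.IsUnitaryForm σ (hermForm n F q)} {M : Subgroup (GL (Fin n) F)}

omit [Fintype F] in
theorem mon_inv (hf : Geo.IsUnitaryForm σ (hermForm n F q)) (hσ : ∀ x, σ x = x ^ q)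
    {y : GL (Fin n) F} (hy : y ∈ isoGrp (hermForm n F q)) (h : Mon y⁻¹) : Mon y := by
  classical
  intro i
  refine card_le_one.2 fun z1 h1 z2 h2 => ?_
  by_contra hne
  set c := fun z => ((y⁻¹ : GL (Fin n) F) : Matrix (Fin n) (Fin n) F) *ᵥ Pi.single z 1
  have ni : ∀ z, z ∈ sp ((y : Matrix (Fin n) (Fin n) F) *ᵥ Pi.single i 1) → c z i ≠ 0 := fun z hz => by
    simp only [c, entry_inv hf hσ hy]
    simpa using mem_sp.1 hz
  have hval : ∀ z, z ∈ sp ((y : Matrix (Fin n) (Fin n) F) *ᵥ Pi.single i 1) →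
      c z = c z i • Pi.single i 1 := fun z hz => funext fun m => by
    rcases eq_or_ne m i with rfl | hm
    · simp
    · have : c z m = 0 := by
        by_contra hc
        exact hm (card_le_one.1 (h z) m (mem_sp.2 hc) i (mem_sp.2 (ni z hz)))
      simp [this, hm]
  have h0 : hermForm n F q (c z1) (c z2) = 0 := by
    rw [mem_isoGrp.1 (Subgroup.inv_mem _ hy), herm_single_right' hσ]
    simp [hne, Ne.symm hne]
  rw [hval z1 h1, hval z2 h2, u_smul_left hf, u_smul_right hf, herm_single_right' hσ,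
    Pi.single_eq_same, mul_one, mul_eq_zero] at h0
  rcases h0 with h0 | h0
  · exact ni z1 h1 h0
  · exact ni z2 h2 (by simpa using h0)

omit [Fintype F] in
theorem not_mon_of {y : GL (Fin n) F} {j : Fin n}
    (h : 2 ≤ #(sp ((y : Matrix (Fin n) (Fin n) F) *ᵥ Pi.single j 1))) : ¬ Mon y := fun hm => by
  have := hm j
  omega

omit [Fintype F] in
/-- the span of two vectors holds at most two axes -/
theorem axes_le_two {A : Finset (Fin n)} {p r : Fin n → F}
    (h : ∀ i ∈ A, (Pi.single i 1 : Fin n → F) ∈ Submodule.span F ({p, r} : Set (Fin n → F))) :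
    #A ≤ 2 := by
  classical
  have hli : LinearIndependent F fun i : A => (⟨Pi.single i.1 1, h i.1 i.2⟩ :
      Submodule.span F ({p, r} : Set (Fin n → F))) := by
    refine LinearIndependent.of_comp (Submodule.subtype _) ?_
    exact (Pi.linearIndependent_single_one (Fin n) F).comp (fun i : A => i.1) Subtype.val_injective
  have h1 := hli.fintype_card_le_finrank
  have h2 : Module.finrank F (Submodule.span F ({p, r} : Set (Fin n → F))) ≤ 2 := by
    have := finrank_span_finset_le_card (R := F) ({p, r} : Finset (Fin n → F))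
    rw [Finset.coe_insert, Finset.coe_singleton] at this
    exact this.trans Finset.card_le_two
  rw [Fintype.card_coe] at h1
  omega

/-- A column with two zeros. -/
theorem two_zero (hf : Geo.IsUnitaryForm σ (hermForm n F q)) (hF : Fintype.card F = q ^ 2) (hσ : ∀ x, σ x = x ^ q) (hq : 3 ≤ q) (hn : 4 ≤ n)
    (hM : M ≤ isoGrp (hermForm n F q)) (hph : Phases σ M) (hno : ¬ GOne M) {y : GL (Fin n) F}
    (hy : y ∈ M) {j z1 z2 : Fin n} (hz : z1 ≠ z2)
    (h1 : ((y : Matrix (Fin n) (Fin n) F) *ᵥ Pi.single j 1) z1 = 0)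
    (h2 : ((y : Matrix (Fin n) (Fin n) F) *ᵥ Pi.single j 1) z2 = 0) :
    ∃ S : Finset (Fin n), #S ≤ 2 ∧
      sp (((y⁻¹ : GL (Fin n) F) : Matrix (Fin n) (Fin n) F) *ᵥ Pi.single z1 1) ⊆ S ∧
      sp (((y⁻¹ : GL (Fin n) F) : Matrix (Fin n) (Fin n) F) *ᵥ Pi.single z2 1) ⊆ S := by
  classical
  obtain ⟨e, -, he⟩ := exists_mem_notMem_of_card_lt_card (s := ({z1, z2} : Finset (Fin n)))
    (t := univ) (by rw [card_univ, Fintype.card_fin]; exact lt_of_le_of_lt card_le_two (by omega))
  simp only [mem_insert, Finset.mem_singleton, not_or] at he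
  -- a phase of large order
  obtain ⟨l, hl, hl1, hlm, hl3⟩ : ∃ l : F, l * σ l = 1 ∧ l ≠ 1 ∧ l ≠ -1 ∧ l ^ 3 ≠ 1 := by
    by_contra hcon
    push Not at hcon
    have : cs σ ⊆ insert (-1) ((Polynomial.nthRoots 3 (1 : F)).toFinset) := fun l hl => by
      rw [Finset.mem_insert, Multiset.mem_toFinset, Polynomial.mem_nthRoots (by norm_num)]
      by_cases a1 : l = 1
      · exact Or.inr (by rw [a1, one_pow])
      by_cases a2 : l = -1
      · exact Or.inl a2
      exact Or.inr (hcon l (mem_cs.1 hl) a1 a2)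
    have h3 := (card_le_card this).trans (card_insert_le _ _)
    have h4 := (Multiset.toFinset_card_le _).trans (Polynomial.card_nthRoots 3 (1 : F))
    rw [card_cs hF hσ] at h3
    -- then `q = 3`, where the fourth roots of unity do
    have hq3 : q = 3 := by omega
    subst hq3
    have hfull : ∀ l : F, l * σ l = 1 → l ^ 4 = 1 := fun l hl => by rw [hσ] at hl; linear_combination hl
    have hsub : cs σ ⊆ ({1, -1} : Finset F) := fun l hl => by
      by_contra hl'
      simp only [mem_insert, Finset.mem_singleton, not_or] at hl'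
      have e3 := hcon l (mem_cs.1 hl) hl'.1 hl'.2
      exact hl'.1 (by linear_combination hfull l (mem_cs.1 hl) - l * e3)
    have := (card_le_card hsub).trans card_le_two
    rw [card_cs hF hσ] at this
    omega
  have hl0 := ne_zero_of_norm hl
  obtain ⟨θ, hθ, θ1, θ2, θe, θo⟩ := ph_three (σ := σ) (fun _ h => ne_zero_of_norm h) hz
    (Ne.symm he.1) (Ne.symm he.2) (l := l) (m := l⁻¹) hl (by rw [map_inv₀, ← mul_inv, hl, inv_one])
  have θe' : θ e = 1 := by rw [θe, mul_inv_cancel₀ hl0, inv_one]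
  have θo' : ∀ i, i ≠ z1 → i ≠ z2 → θ i = 1 := fun i a b => by
    rcases eq_or_ne i e with rfl | c
    · exact θe'
    · exact θo i a b c
  obtain ⟨g, hg, hgx⟩ := hph θ hθ
  set h := y⁻¹ * g * y
  have hh : h ∈ M := M.mul_mem (M.mul_mem (M.inv_mem hy) hg) hy
  set Y := (y : Matrix (Fin n) (Fin n) F)
  set Yi := ((y⁻¹ : GL (Fin n) F) : Matrix (Fin n) (Fin n) F)
  set H := (h : Matrix (Fin n) (Fin n) F)
  have hH : ∀ x, H *ᵥ x = Yi *ᵥ ((g : Matrix (Fin n) (Fin n) F) *ᵥ (Y *ᵥ x)) := fun x => by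
    rw [show H = _ from rfl, mul_mulVec, mul_mulVec]
  have hfix : H *ᵥ Pi.single j 1 = Pi.single j 1 := by
    have : (g : Matrix (Fin n) (Fin n) F) *ᵥ (Y *ᵥ Pi.single j 1) = Y *ᵥ Pi.single j 1 := by
      funext m
      rw [hgx]
      rcases eq_or_ne m z1 with rfl | a
      · rw [h1, mul_zero]
      rcases eq_or_ne m z2 with rfl | b
      · rw [h2, mul_zero]
      rw [θo' m a b, one_mul]
    rw [hH, this, inv_mulVec_mulVec]
  have hmon : Mon h := by
    by_contra hm
    exact hno ⟨h, hh, hm, j, (card_le_card (t := {j}) (fun m hm => by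
      rw [mem_sp, show (h : Matrix (Fin n) (Fin n) F) = H from rfl, hfix] at hm
      by_contra hmj
      rw [Finset.mem_singleton] at hmj
      exact hm (by simp [hmj]))).trans (card_singleton j).le⟩
  set x1 := Yi *ᵥ Pi.single z1 1
  set x2 := Yi *ᵥ Pi.single z2 1
  set R2 := Submodule.span F ({x1, x2} : Set (Fin n → F))
  have hsub : ∀ x, H *ᵥ x - x = ((l - 1) * (Y *ᵥ x) z1) • x1 + ((l⁻¹ - 1) * (Y *ᵥ x) z2) • x2 := by
    intro x
    have e1 : (g : Matrix (Fin n) (Fin n) F) *ᵥ (Y *ᵥ x) = Y *ᵥ x +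
        (((l - 1) * (Y *ᵥ x) z1) • Pi.single z1 1 + ((l⁻¹ - 1) * (Y *ᵥ x) z2) • Pi.single z2 1) := by
      funext m
      rw [hgx]
      simp only [Pi.add_apply, Pi.smul_apply, smul_eq_mul, Pi.single_apply]
      rcases eq_or_ne m z1 with rfl | a
      · simp [θ1, hz]; ring
      rcases eq_or_ne m z2 with rfl | b
      · simp [θ2, a]; ring
      simp [θo' m a b, a, b]
    rw [hH, e1, mulVec_add, mulVec_add, mulVec_smul, mulVec_smul, inv_mulVec_mulVec,
      add_sub_cancel_left]
  have hmem : ∀ x, H *ᵥ x - x ∈ R2 := fun x => by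
    rw [hsub]
    exact Submodule.add_mem _ (Submodule.smul_mem _ _ (Submodule.subset_span (Or.inl rfl)))
      (Submodule.smul_mem _ _ (Submodule.subset_span (Or.inr rfl)))
  set A := univ.filter fun i => H *ᵥ Pi.single i 1 ≠ Pi.single i 1
  -- monomial shape
  have hshape : ∀ i, ∃ k, ∃ c : F, c ≠ 0 ∧ H *ᵥ Pi.single i 1 = c • Pi.single k 1 := by
    intro i
    set w := H *ᵥ Pi.single i 1
    obtain ⟨k, hk⟩ : ∃ k, w k ≠ 0 := by
      by_contra h0
      push Not at h0
      have := congrFun (congrArg (fun v => ((h⁻¹ : GL (Fin n) F) : Matrix (Fin n) (Fin n) F) *ᵥ v)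
        (funext h0 : w = 0)) i
      rw [show w = (h : Matrix (Fin n) (Fin n) F) *ᵥ Pi.single i 1 from rfl] at this
      simp only [inv_mulVec_mulVec, mulVec_zero, Pi.single_eq_same, Pi.zero_apply] at this
      exact one_ne_zero this
    refine ⟨k, w k, hk, funext fun m => ?_⟩
    rcases eq_or_ne m k with rfl | hm
    · simp
    · have : w m = 0 := by
        by_contra hc
        exact hm (card_le_one.1 (hmon i) m (mem_sp.2 hc) k (mem_sp.2 hk))
      simp [this, hm]
  have hrel : ∀ x, H *ᵥ (H *ᵥ (H *ᵥ x)) - (l + l⁻¹ + 1) • (H *ᵥ (H *ᵥ x)) +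
      (l + l⁻¹ + 1) • (H *ᵥ x) - x = 0 := by
    intro x
    have hYY : ∀ v, Y *ᵥ (Yi *ᵥ v) = v := fun v => mulVec_inv_mulVec y v
    simp only [hH, hYY]
    conv_lhs => arg 2; rw [show x = Yi *ᵥ (Y *ᵥ x) from (inv_mulVec_mulVec y x).symm]
    rw [← mulVec_smul Yi, ← mulVec_smul Yi, ← mulVec_sub, ← mulVec_add, ← mulVec_sub]
    convert mulVec_zero Yi
    funext m
    simp only [Pi.add_apply, Pi.sub_apply, Pi.smul_apply, Pi.zero_apply, smul_eq_mul, hgx]
    rcases eq_or_ne m z1 with rfl | a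
    · rw [θ1]; field_simp; ring
    rcases eq_or_ne m z2 with rfl | b
    · rw [θ2]; field_simp; ring
    rw [θo' m a b]; ring
  have hA : ∀ i ∈ A, (Pi.single i 1 : Fin n → F) ∈ R2 := by
    intro i hi
    have hi' := (mem_filter.1 hi).2
    obtain ⟨k, c, hc, hik⟩ := hshape i
    have m1 := hmem (Pi.single i 1)
    rw [hik] at m1 hi'
    rcases eq_or_ne k i with rfl | hki
    · have hc1 : c - 1 ≠ 0 := sub_ne_zero.2 fun h => hi' (by rw [h, one_smul])
      rw [show c • (Pi.single k 1 : Fin n → F) - Pi.single k 1 = (c - 1) • Pi.single k 1 by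
        rw [sub_smul, one_smul]] at m1
      exact (Submodule.smul_mem_iff _ hc1).1 m1
    obtain ⟨m, d, hd, hkm⟩ := hshape k
    rcases eq_or_ne m i with rfl | hmi
    · by_cases hP : c * d = 1
      · exfalso
        obtain ⟨m', g', -, hm'⟩ := hshape m
        have r := congrFun (hrel (Pi.single m 1)) m
        rw [hik] at hm'
        simp only [hik, hkm, mulVec_smul, smul_smul, Pi.add_apply, Pi.sub_apply, Pi.smul_apply,
          Pi.single_eq_same, Pi.single_eq_of_ne hki.symm, smul_eq_mul, Pi.zero_apply, hP] at r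
        have : (l + 1) * (l + 1) = 0 := by
          field_simp at r
          linear_combination -r
        exact hlm (by linear_combination mul_self_eq_zero.1 this)
      · have m2 := hmem (Pi.single k 1)
        rw [hkm] at m2
        have m3 := R2.add_mem (R2.smul_mem c m2) m1
        rw [show c • (d • (Pi.single m 1 : Fin n → F) - Pi.single k 1) +
          (c • Pi.single k 1 - Pi.single m 1) = (c * d - 1) • Pi.single m 1 by module] at m3
        exact (Submodule.smul_mem_iff _ (sub_ne_zero.2 hP)).1 m3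
    exfalso
    have hkm' : m ≠ k := by
      rintro rfl
      have e := hkm
      have : H *ᵥ (d • Pi.single i 1 - c • Pi.single m 1) = 0 := by
        rw [mulVec_sub, mulVec_smul, mulVec_smul, hik, hkm, smul_smul, smul_smul, mul_comm, sub_self]
      have := congrArg (fun v => ((h⁻¹ : GL (Fin n) F) : Matrix (Fin n) (Fin n) F) *ᵥ v) this
      simp only [H, inv_mulVec_mulVec, mulVec_zero] at this
      have := congrFun this i
      simp [hki.symm, hd] at this
    obtain ⟨r', d', -, hmr⟩ := hshape m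
    have hr' : r' ≠ m := by
      rintro rfl
      have : H *ᵥ (d' • Pi.single k 1 - d • Pi.single r' 1) = 0 := by
        rw [mulVec_sub, mulVec_smul, mulVec_smul, hkm, hmr, smul_smul, smul_smul, mul_comm, sub_self]
      have := congrArg (fun v => ((h⁻¹ : GL (Fin n) F) : Matrix (Fin n) (Fin n) F) *ᵥ v) this
      simp only [H, inv_mulVec_mulVec, mulVec_zero] at this
      have := congrFun this r'
      simp [hkm', hd] at this
    have r := congrFun (hrel (Pi.single i 1)) m
    simp only [hik, hkm, hmr, mulVec_smul, smul_smul, Pi.add_apply, Pi.sub_apply, Pi.smul_apply,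
      Pi.single_eq_same, Pi.single_eq_of_ne hr'.symm, Pi.single_eq_of_ne hkm',
      Pi.single_eq_of_ne hmi, smul_eq_mul, Pi.zero_apply, mul_zero, mul_one, sub_zero, zero_sub,
      add_zero] at r
    have hτ : l + l⁻¹ + 1 = 0 :=
      (mul_eq_zero.1 (show (l + l⁻¹ + 1) * (c * d) = 0 by linear_combination -r)).resolve_right
        (mul_ne_zero hc hd)
    field_simp at hτ
    exact hl3 (by linear_combination (l - 1) * hτ)
  refine ⟨A, axes_le_two hA, ?_⟩
  have hout : ∀ x m, m ∉ A → (H *ᵥ x - x) m = 0 := by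
    intro x m hm
    have hm' : H *ᵥ Pi.single m 1 = Pi.single m 1 := by
      by_contra h
      exact hm (mem_filter.2 ⟨mem_univ _, h⟩)
    conv_lhs => rw [pi_eq_sum_univ' x]
    rw [mulVec_sum, ← sum_sub_distrib, Finset.sum_apply]
    refine sum_eq_zero fun i _ => ?_
    rw [mulVec_smul, ← smul_sub, Pi.smul_apply]
    by_cases hi : H *ᵥ Pi.single i 1 = Pi.single i 1
    · rw [hi, sub_self, Pi.zero_apply, smul_zero]
    obtain ⟨k, c, hc, hik⟩ := hshape i
    have hmi : m ≠ i := fun h => hi (h ▸ hm')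
    have hmk : m ≠ k := by
      rintro rfl
      have : H *ᵥ (Pi.single i 1 - c • Pi.single m 1) = 0 := by
        rw [mulVec_sub, mulVec_smul, hik, hm', sub_self]
      have := congrArg (fun v => ((h⁻¹ : GL (Fin n) F) : Matrix (Fin n) (Fin n) F) *ᵥ v) this
      simp only [H, inv_mulVec_mulVec, mulVec_zero] at this
      have := congrFun this i
      simp [hmi.symm] at this
    rw [hik]
    simp [hmi, hmk]
  have key : ∀ z, (z = z1 ∨ z = z2) → sp (Yi *ᵥ Pi.single z 1) ⊆ A := by
    intro z hzz m hm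
    by_contra hmA
    rw [mem_sp] at hm
    apply hm
    have e := hout (Yi *ᵥ Pi.single z 1) m hmA
    rw [hsub, show Y *ᵥ (Yi *ᵥ Pi.single z 1) = Pi.single z 1 from mulVec_inv_mulVec y _] at e
    rcases hzz with rfl | rfl
    · simpa [hz.symm, sub_eq_zero, hl1, x1] using e
    · simpa [hz, sub_eq_zero, hl1, x2] using e
  exact ⟨key z1 (Or.inl rfl), key z2 (Or.inr rfl)⟩

/-- All columns are nearly full. -/
theorem no_two (hf : Geo.IsUnitaryForm σ (hermForm n F q)) (hF : Fintype.card F = q ^ 2) (hσ : ∀ x, σ x = x ^ q) (hq : 3 ≤ q) (hn : 13 ≤ n)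
    (hM : M ≤ isoGrp (hermForm n F q)) (hph : Phases σ M) (hno : ¬ GOne M) {y : GL (Fin n) F}
    (hy : y ∈ M) (hy' : ¬ Mon y) (j : Fin n) :
    n ≤ #(sp ((y : Matrix (Fin n) (Fin n) F) *ᵥ Pi.single j 1)) + 1 := by
  classical
  -- first, the step
  have step2 : ∀ y ∈ M, ¬ Mon y → ∀ j, #(sp ((y : Matrix (Fin n) (Fin n) F) *ᵥ Pi.single j 1)) + 2 ≤ n →
      ∃ y' ∈ M, ¬ Mon y' ∧ ∃ k, #(sp ((y' : Matrix (Fin n) (Fin n) F) *ᵥ Pi.single k 1)) = 2 := by
    intro y hy hy' j hj
    obtain ⟨z1, z2, hz1, hz2, hz⟩ := one_lt_card_iff.1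
      (show 1 < #(sp ((y : Matrix (Fin n) (Fin n) F) *ᵥ Pi.single j 1))ᶜ by
        rw [card_compl, Fintype.card_fin]; omega)
    rw [Finset.mem_compl, notMem_sp] at hz1 hz2
    obtain ⟨S, hS, h1, -⟩ := two_zero hf hF hσ hq (by omega) hM hph hno hy hz hz1 hz2
    have hinv : ¬ Mon y⁻¹ := fun h => hy' (mon_inv hf hσ (hM hy) h)
    refine ⟨y⁻¹, M.inv_mem hy, hinv, z1, ?_⟩
    have := (card_le_card h1).trans hS
    by_contra hne
    exact hno ⟨y⁻¹, M.inv_mem hy, hinv, z1, by omega⟩
  by_contra hj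
  obtain ⟨y', hy1, hy2, k, hk⟩ := step2 y hy hy' j (by omega)
  obtain ⟨z1, z2, z3, hz1, hz2, hz3, h12, h13, h23⟩ := two_lt_card_iff.1
    (show 2 < #(sp ((y' : Matrix (Fin n) (Fin n) F) *ᵥ Pi.single k 1))ᶜ by
      rw [card_compl, Fintype.card_fin]; omega)
  rw [Finset.mem_compl, notMem_sp] at hz1 hz2 hz3
  set c := fun z => ((y'⁻¹ : GL (Fin n) F) : Matrix (Fin n) (Fin n) F) *ᵥ Pi.single z 1
  obtain ⟨S, hS, a1, a2⟩ := two_zero hf hF hσ hq (by omega) hM hph hno hy1 h12 hz1 hz2
  obtain ⟨S', hS', b1, b3⟩ := two_zero hf hF hσ hq (by omega) hM hph hno hy1 h13 hz1 hz3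
  have hinv : ¬ Mon y'⁻¹ := fun h => hy2 (mon_inv hf hσ (hM hy1) h)
  have h2 : 2 ≤ #(sp (c z1)) := by
    by_contra h
    exact hno ⟨y'⁻¹, M.inv_mem hy1, hinv, z1, by simp only [c] at h; omega⟩
  have e1 : sp (c z1) = S := eq_of_subset_of_card_le a1 (hS.trans h2)
  have e2 : sp (c z1) = S' := eq_of_subset_of_card_le b1 (hS'.trans h2)
  rw [← e1] at a2
  rw [← e2] at b3
  obtain ⟨p, r, hpr, hs⟩ := card_eq_two.1 (le_antisymm (e1 ▸ hS) h2)
  have hmem : ∀ v, sp v ⊆ sp (c z1) →
      v ∈ Submodule.span F ({Pi.single p 1, Pi.single r 1} : Set (Fin n → F)) := by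
    intro v hv
    refine Submodule.mem_span_pair.2 ⟨v p, v r, funext fun m => ?_⟩
    rcases eq_or_ne m p with rfl | a
    · simp [hpr]
    rcases eq_or_ne m r with rfl | b
    · simp [hpr.symm]
    · have : v m = 0 := notMem_sp.1 fun h => by
        have := hv h
        simp [hs, a, b] at this
      simp [this, a, b]
  have hli : LinearIndependent F fun i : Fin 3 => (⟨c (![z1, z2, z3] i), by
      fin_cases i
      · exact hmem _ subset_rfl
      · exact hmem _ a2
      · exact hmem _ b3⟩ : Submodule.span F ({Pi.single p 1, Pi.single r 1} : Set (Fin n → F))) := by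
    refine LinearIndependent.of_comp (Submodule.subtype _) ?_
    exact (gl_cols_independent y'⁻¹).comp ![z1, z2, z3] (by
      intro i i' h
      fin_cases i <;> fin_cases i' <;>
        simp [h12, h13, h23, h12.symm, h13.symm, h23.symm] at h ⊢)
  have h3 := hli.fintype_card_le_finrank
  have h4 : Module.finrank F
      (Submodule.span F ({Pi.single p 1, Pi.single r 1} : Set (Fin n → F))) ≤ 2 := by
    have := finrank_span_finset_le_card (R := F)
      ({Pi.single p 1, Pi.single r 1} : Finset (Fin n → F))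
    rw [Finset.coe_insert, Finset.coe_singleton] at this
    exact this.trans Finset.card_le_two
  rw [Fintype.card_fin] at h3
  omega

/-- A non-monomial element with one zero in a column. -/
theorem exists_zero (hf : Geo.IsUnitaryForm σ (hermForm n F q)) (hF : Fintype.card F = q ^ 2) (hσ : ∀ x, σ x = x ^ q) (hq : 3 ≤ q) (hn : 13 ≤ n)
    (hM : M ≤ isoGrp (hermForm n F q)) (hph : Phases σ M) (hno : ¬ GOne M) {g : GL (Fin n) F}
    (hg : g ∈ M) (hg' : ¬ Mon g) :
    ∃ y ∈ M, ¬ Mon y ∧ ∃ j z, ((y : Matrix (Fin n) (Fin n) F) *ᵥ Pi.single j 1) z = 0 := by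
  classical
  have hgi : ¬ Mon g⁻¹ := fun h => hg' (mon_inv hf hσ (hM hg) h)
  by_contra hcon
  push Not at hcon
  haveI : Fintype (circ F q) := Fintype.ofFinite _
  have hC := card_circ (q := q) hF
  set k : Fin n := ⟨0, by omega⟩
  set m : Fin n := ⟨1, by omega⟩
  set X := ((g⁻¹ : GL (Fin n) F) : Matrix (Fin n) (Fin n) F) *ᵥ Pi.single k 1
  set X' := ((g⁻¹ : GL (Fin n) F) : Matrix (Fin n) (Fin n) F) *ᵥ Pi.single m 1
  have hX : ∀ i, X i ≠ 0 := hcon g⁻¹ (M.inv_mem hg) hgi k
  have hX' : ∀ i, X' i ≠ 0 := hcon g⁻¹ (M.inv_mem hg) hgi m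
  let img : (Fin n → circ F q) → Fin n → F := fun θ =>
    (g : Matrix (Fin n) (Fin n) F) *ᵥ fun i => ((θ i).1 : F) * X i
  set K : Finset (Fin n → circ F q) :=
    univ.biUnion fun r => univ.filter fun θ => ∀ i, i ≠ r → img θ i = 0
  have hK : #K ≤ n * (q + 1) ^ 2 := by
    refine card_biUnion_le.trans ((sum_le_card_nsmul _ _ ((q + 1) ^ 2) fun r _ => ?_).trans (by simp))
    set W := ((g⁻¹ : GL (Fin n) F) : Matrix (Fin n) (Fin n) F) *ᵥ Pi.single r 1
    refine le_trans ?_ (show q + 1 ≤ (q + 1) ^ 2 from Nat.le_self_pow two_ne_zero _)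
    rw [← hC, ← Finset.card_univ]
    refine card_le_card_of_injOn (fun θ => θ k) (fun _ _ => mem_univ _) fun θ hθ θ' hθ' h => ?_
    simp only [coe_filter, mem_univ, true_and, Set.mem_ofPred_eq] at hθ hθ'
    have hscal : ∀ θ, (∀ i, i ≠ r → img θ i = 0) → ∀ i, ((θ i).1 : F) * X i = img θ r * W i := by
      intro θ hθ i
      have e : img θ = img θ r • Pi.single r 1 := funext fun a => by
        rcases eq_or_ne a r with rfl | ha
        · simp
        · simp [hθ a ha, ha]
      have := congrFun (congrArg (fun v => ((g⁻¹ : GL (Fin n) F) : Matrix (Fin n) (Fin n) F) *ᵥ v) e) i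
      simpa only [img, inv_mulVec_mulVec, mulVec_smul, Pi.smul_apply, smul_eq_mul] using this
    have hk := hscal θ hθ k
    have hk' := hscal θ' hθ' k
    simp only at h
    rw [h, hk', mul_eq_mul_right_iff] at hk
    have hW : W k ≠ 0 := fun h0 => by
      rw [h0, mul_zero] at hk'
      exact mul_ne_zero (θ' k).1.ne_zero (hX k) hk'
    funext i
    refine Subtype.ext (Units.ext (mul_right_cancel₀ (hX i) ?_))
    rw [hscal θ hθ i, hscal θ' hθ' i, hk.resolve_right hW]
  obtain ⟨θ, hθK, hθs, hθp⟩ := exists_phases hq (frob_add hF) hF hC (by simpa using hn)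
    (fun i => X i * σ (X' i)) (fun i => mul_ne_zero (hX i) (by simpa using hX' i)) 0 K
    (lt_of_le_of_lt (Nat.mul_le_mul_left _ hK)
      (by simpa using num_blocks (q := q) hq hn (by omega : 2 ≤ n) (mul_one n)))
  obtain ⟨t, ht, htx⟩ := hph (fun i => ((θ i).1 : F))
    ⟨fun i => by rw [hσ]; exact mem_circ.1 (θ i).2, by rw [coe_prod_circ, hθp]; rfl⟩
  set y := g * t * g⁻¹
  have hy : y ∈ M := M.mul_mem (M.mul_mem hg ht) (M.inv_mem hg)
  have hyk : (y : Matrix (Fin n) (Fin n) F) *ᵥ Pi.single k 1 = img θ := by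
    simp only [y, mul_mulVec, img]
    exact congrArg _ (funext fun i => htx _ i)
  have h2 : 2 ≤ #(sp ((y : Matrix (Fin n) (Fin n) F) *ᵥ Pi.single k 1)) := by
    rw [hyk]
    by_contra h
    obtain ⟨r, hr⟩ : ∃ r, sp (img θ) ⊆ {r} := by
      rcases (sp (img θ)).eq_empty_or_nonempty with h0 | ⟨r, hr⟩
      · exact ⟨k, by simp [h0]⟩
      · exact ⟨r, fun i hi => Finset.mem_singleton.2 (card_le_one.1 (by omega) i hi r hr)⟩
    exact hθK (mem_biUnion.2 ⟨r, mem_univ _, mem_filter.2 ⟨mem_univ _, fun i hi =>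
      notMem_sp.1 fun h' => hi (Finset.mem_singleton.1 (hr h'))⟩⟩)
  refine hcon y hy (not_mon_of h2) k m ?_
  rw [hyk, ← herm_single_right' hσ (img θ) m, ← mem_isoGrp.1 (Subgroup.inv_mem _ (hM hg)),
    show ((g⁻¹ : GL (Fin n) F) : Matrix (Fin n) (Fin n) F) *ᵥ img θ = fun i => ((θ i).1 : F) * X i
      from inv_mulVec_mulVec g _, herm_sum hσ]
  exact (sum_congr rfl fun i _ => by show _ = X i * σ (X' i) * ((θ i).1 : F); ring).trans hθs

end Cfsg.Agent.H63.UDec
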