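import Cfsg.Agent.H63.UDec.Basic

/-!
If every coordinate pair carries its transvections, so does every isotropic vector.
-/

set_option autoImplicit false

namespace Cfsg.Agent.H63.UDec

open scoped MatrixGroups Matrix
open Finset Matrix Cfsg Cfsg.Agent.H95 Cfsg.Agent.Symplectic

variable {F : Type*} [Field F] [Fintype F] {n q : ℕ} {σ : F ≃+* F}
  {hf : Geo.IsUnitaryForm σ (hermForm n F q)} {M : Subgroup (GL (Fin n) F)}

omit [Fintype F] in
/-- An isotropic shear on a pair of coordinates. -/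
theorem shear (hσ : ∀ x, σ x = x ^ q) {a b : Fin n} (hab : a ≠ b) (hP : Pair hf M a b) {ρ l : F}
    (hρ : ρ * σ ρ = -1) (hl : σ l = -l) (x : Fin n → F) :
    ∃ h ∈ M, h ∈ isoGrp (hermForm n F q) ∧
      ((h : Matrix (Fin n) (Fin n) F) *ᵥ x) a = x a + l * (x a + x b * σ ρ) ∧
      ((h : Matrix (Fin n) (Fin n) F) *ᵥ x) b = x b + l * ρ * (x a + x b * σ ρ) ∧
      ∀ i, i ≠ a → i ≠ b → ((h : Matrix (Fin n) (Fin n) F) *ᵥ x) i = x i := by
  classical
  let v : Fin n → F := fun i => if i = a then 1 else if i = b then ρ else 0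
  have hv : ∀ i, i ≠ a → i ≠ b → v i = 0 := fun i h h' => by simp [v, h, h']
  have hvv : hermForm n F q v v = 0 := by
    rw [norm_two hσ hab hv]; simp [v, hab.symm, hρ]
  have hxv : hermForm n F q x v = x a + x b * σ ρ := by
    rw [← u_conj hf v x, norm_two hσ hab hv, map_add, map_mul, map_mul, u_inv hf, u_inv hf]
    simp [v, hab.symm]
    ring
  refine ⟨ut hf v l, hP v hv hvv l hl, ut_mem_iso hf hvv hl, ?_, ?_, fun i h h' => ?_⟩ <;>
    rw [ut_mulVec hf hvv, Pi.add_apply, Pi.smul_apply, hxv, smul_eq_mul]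
  · simp [v]
  · simp [v, hab.symm]; ring
  · simp [hv i h h']

/-- Killing one coordinate of a pair. -/
theorem kill_of_skew (hσ : ∀ x, σ x = x ^ q) {a b : Fin n} (hab : a ≠ b) (hP : Pair hf M a b)
    {x : Fin n → F} (ha : x a ≠ 0) (hb : x b ≠ 0) {δ : F} (hδ : σ δ = -δ) (hδ0 : δ ≠ 0)
    (hδ2 : δ ^ 2 = x a * σ (x a) * (x a * σ (x a) + x b * σ (x b))) :
    ∃ h ∈ M, h ∈ isoGrp (hermForm n F q) ∧
      ((h : Matrix (Fin n) (Fin n) F) *ᵥ x) a = 0 ∧
      ∀ i, i ≠ a → i ≠ b → ((h : Matrix (Fin n) (Fin n) F) *ᵥ x) i = x i := by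
  classical
  have hσa : σ (x a) ≠ 0 := by simpa using ha
  have hσb : σ (x b) ≠ 0 := by simpa using hb
  set ζ := -(x a * σ (x a)) + δ with hζ
  set ρ := ζ / (x a * σ (x b)) with hρdef
  have hζσ : σ ζ = -(x a * σ (x a)) - δ := by
    rw [hζ, map_add, map_neg, map_mul, u_inv hf, hδ]; ring
  have hρ : ρ * σ ρ = -1 := by
    rw [hρdef, map_div₀, map_mul, u_inv hf, hζσ]
    field_simp
    rw [hζ]
    linear_combination (-1) * hδ2
  set φ := x a + x b * σ ρ
  have hφ : σ (x a) * φ = -δ := by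
    simp only [φ, hρdef, map_div₀, map_mul, u_inv hf, hζσ]
    field_simp
    ring
  have hφ0 : φ ≠ 0 := fun h => hδ0 (by simpa [h] using hφ)
  have hl : σ (-(x a) / φ) = -(-(x a) / φ) := by
    have e : -(x a) / φ = x a * σ (x a) / δ := by
      rw [div_eq_div_iff hφ0 hδ0]
      linear_combination x a * hφ * (-1)
    rw [e, map_div₀, map_mul, u_inv hf, hδ]
    field_simp
  obtain ⟨h, hh, hhi, h1, -, h3⟩ := shear hσ hab hP hρ hl x
  refine ⟨h, hh, hhi, ?_, h3⟩
  rw [h1, div_mul_cancel₀ _ hφ0, add_neg_cancel]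

/-- There is a skew square root in characteristic two. -/
theorem exists_root (h2 : (2 : F) = 0) {r : F} (hr : σ r = r) : ∃ δ : F, σ δ = -δ ∧ δ ^ 2 = r := by
  obtain ⟨δ, hδ⟩ := FiniteField.isSquare_of_char_two
    (CharTwo.of_one_ne_zero_of_two_eq_zero one_ne_zero h2 |> fun h => ringChar.eq_iff.2 h) r
  refine ⟨δ, ?_, by rw [hδ]; ring⟩
  have : (σ δ + δ) * (σ δ + δ) = 0 := by
    rw [hδ, map_mul] at hr
    linear_combination hr + (σ δ * δ + δ * δ) * h2
  exact eq_neg_of_add_eq_zero_left (mul_self_eq_zero.1 this)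

/-- A pair with non-zero norm can lose a coordinate. -/
theorem kill (hF : Fintype.card F = q ^ 2) (hσ : ∀ x, σ x = x ^ q) {a b : Fin n} (hab : a ≠ b)
    (hP : Pair hf M a b) {x : Fin n → F} (ha : x a ≠ 0) (hb : x b ≠ 0)
    (hc : x a * σ (x a) + x b * σ (x b) ≠ 0) :
    ∃ h ∈ M, h ∈ isoGrp (hermForm n F q) ∧
      (((h : Matrix (Fin n) (Fin n) F) *ᵥ x) a = 0 ∨ ((h : Matrix (Fin n) (Fin n) F) *ᵥ x) b = 0) ∧
      ∀ i, i ≠ a → i ≠ b → ((h : Matrix (Fin n) (Fin n) F) *ᵥ x) i = x i := by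
  classical
  set N := x a * σ (x a)
  set c := N + x b * σ (x b)
  have hN0 : N ≠ 0 := mul_ne_zero ha (by simpa using ha)
  have hNf : σ N = N := by simp only [N, map_mul, u_inv hf, mul_comm]
  have hcf : σ c = c := by simp only [c, map_add, hNf, map_mul, u_inv hf]; ring
  by_cases h2 : (2 : F) = 0
  · obtain ⟨δ, hδ, hδ2⟩ := exists_root h2 (r := N * c) (σ := σ) (by rw [map_mul, hNf, hcf])
    obtain ⟨g, hg, hgi, g1, g3⟩ := kill_of_skew hσ hab hP ha hb hδ
      (fun h => mul_ne_zero hN0 hc (by rw [← hδ2, h]; ring)) hδ2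
    exact ⟨g, hg, hgi, Or.inl g1, g3⟩
  obtain ⟨ρ₀, hρ₀⟩ := Unitary.exists_norm_eq_neg_one hF
  rw [← hσ] at hρ₀
  have hρ0 : ρ₀ ≠ 0 := by rintro rfl; simp at hρ₀
  have hneg : -ρ₀ * σ (-ρ₀) = -1 := by rw [map_neg]; linear_combination hρ₀
  obtain ⟨ρ, hρ, hφ0⟩ : ∃ ρ, ρ * σ ρ = -1 ∧ x a + x b * σ ρ ≠ 0 := by
    by_contra h
    push Not at h
    have e1 := h ρ₀ hρ₀
    have e2 := h (-ρ₀) hneg
    rw [map_neg] at e2
    exact ha ((mul_eq_zero.1 (show (2 : F) * x a = 0 by linear_combination e1 + e2)).resolve_left h2)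
  set φ := x a + x b * σ ρ
  set K := univ.filter fun l : F => σ l = -l
  obtain ⟨d, hd0, hd⟩ := exists_skew_ne_zero hf
  have hK : q ≤ #K := by
    rw [← card_fx hF hσ]
    refine card_le_card_of_injOn (fun r => d * r) (fun r hr => ?_) fun r _ r' _ h =>
      mul_left_cancel₀ hd0 h
    simp only [coe_filter, mem_univ, true_and, Set.mem_setOf_eq, K]
    rw [map_mul, hd, mem_fx.1 (mem_coe.1 hr), neg_mul]
  have hodd : Odd q := by
    rcases Nat.even_or_odd q with he | ho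
    · exfalso
      apply h2
      have : Fintype.card F % 2 = 0 := by
        rw [hF, Nat.pow_mod, Nat.even_iff.1 he]
      have hc2 : ringChar F = 2 := FiniteField.even_card_iff_char_two.2 this
      haveI : CharP F 2 := ringChar.eq_iff.1 hc2
      exact CharTwo.two_eq_zero
    · exact ho
  set newN : F → F := fun l => (x a + l * φ) * σ (x a + l * φ)
  have hnew : ∀ l ∈ K, newN l = N + l * (φ * σ (x a) - x a * σ φ) - l * l * (φ * σ φ) := by
    intro l hl
    have hl' := (mem_filter.1 hl).2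
    simp only [newN, N, map_add, map_mul, hl']
    ring
  have hA : q ≤ 2 * #(K.image newN) := by
    refine hK.trans (card_le_mul_card_image _ 2 fun y hy => ?_)
    obtain ⟨l, hl, rfl⟩ := mem_image.1 hy
    refine (card_le_card (t := {l, (φ * σ (x a) - x a * σ φ) / (φ * σ φ) - l}) fun m hm => ?_).trans
      card_le_two
    obtain ⟨hm, he⟩ := mem_filter.1 hm
    rw [hnew m hm, hnew l hl] at he
    have hP0 : φ * σ φ ≠ 0 := mul_ne_zero hφ0 (by simpa using hφ0)
    have : (m - l) * ((φ * σ (x a) - x a * σ φ) - (m + l) * (φ * σ φ)) = 0 := by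
      linear_combination he
    rcases mul_eq_zero.1 this with h | h
    · simp [sub_eq_zero.1 h]
    · refine mem_insert.2 (Or.inr (Finset.mem_singleton.2 ?_))
      rw [eq_sub_iff_add_eq, eq_div_iff hP0]
      linear_combination -h
  have hB : q ≤ 2 * #(K.image fun δ => δ ^ 2 / c) := by
    refine hK.trans (card_le_mul_card_image _ 2 fun y hy => ?_)
    obtain ⟨l, hl, rfl⟩ := mem_image.1 hy
    refine (card_le_card (t := {l, -l}) fun m hm => ?_).trans card_le_two
    have he := (mem_filter.1 hm).2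
    rw [div_left_inj' hc] at he
    rcases sq_eq_sq_iff_eq_or_eq_neg.1 he with h | h <;> simp [h]
  have hsA : K.image newN ⊆ fx σ := fun y hy => by
    obtain ⟨l, -, rfl⟩ := mem_image.1 hy
    rw [mem_fx]
    simp only [newN, map_mul, u_inv hf]
    ring
  have hsB : (K.image fun δ => δ ^ 2 / c) ⊆ fx σ := fun y hy => by
    obtain ⟨l, hl, rfl⟩ := mem_image.1 hy
    rw [mem_fx, map_div₀, map_pow, hcf, (mem_filter.1 hl).2, neg_sq]
  have := card_fx hF hσ
  obtain ⟨y, hy⟩ := inter_nonempty_of_card_lt_card_add_card hsA hsB (by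
    obtain ⟨j, rfl⟩ := hodd
    omega)
  obtain ⟨hy1, hy2⟩ := mem_inter.1 hy
  obtain ⟨l, hl, rfl⟩ := mem_image.1 hy1
  obtain ⟨δ, hδK, hδ⟩ := mem_image.1 hy2
  have hl' := (mem_filter.1 hl).2
  obtain ⟨h, hh, hhi, e1, e2, e3⟩ := shear hσ hab hP hρ hl' x
  set x' := (h : Matrix (Fin n) (Fin n) F) *ᵥ x
  by_cases hx'a : x' a = 0
  · exact ⟨h, hh, hhi, Or.inl hx'a, e3⟩
  by_cases hx'b : x' b = 0
  · exact ⟨h, hh, hhi, Or.inr hx'b, e3⟩
  have hN' : x' a * σ (x' a) = newN l := by rw [e1]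
  have hc' : x' a * σ (x' a) + x' b * σ (x' b) = c := by
    simp only [c, N, e1, e2, map_add, map_mul, hl', u_inv hf]
    linear_combination (-(l * l * (x a + x b * σ ρ) * (σ (x a) + σ (x b) * ρ))) * hρ
  have hδ' : σ δ = -δ := (mem_filter.1 hδK).2
  have hδ2 : δ ^ 2 = x' a * σ (x' a) * (x' a * σ (x' a) + x' b * σ (x' b)) := by
    rw [hc', hN', ← hδ]
    field_simp
  have hδ0 : δ ≠ 0 := fun h0 => by
    rw [h0, hc'] at hδ2
    simp [hc, hx'a] at hδ2
  obtain ⟨g, hg, hgi, g1, g3⟩ := kill_of_skew hσ hab hP hx'a hx'b hδ' hδ0 hδ2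
  exact ⟨g * h, M.mul_mem hg hh, Subgroup.mul_mem _ hgi hhi, Or.inl (by rw [mul_mulVec]; exact g1),
    fun i hi hi' => by rw [mul_mulVec]; exact (g3 i hi hi').trans (e3 i hi hi')⟩

/-- All isotropic vectors. -/
theorem utIn_all (hF : Fintype.card F = q ^ 2) (hq : 3 ≤ q) (hσ : ∀ x, σ x = x ^ q)
    (hM : M ≤ isoGrp (hermForm n F q)) (hall : ∀ a b : Fin n, a ≠ b → Pair hf M a b) :
    ∀ x : Fin n → F, hermForm n F q x x = 0 → UtIn hf M x := by
  classical
  suffices ∀ s, ∀ x : Fin n → F, #(sp x) = s → hermForm n F q x x = 0 → UtIn hf M x from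
    fun x hx => this _ x rfl hx
  intro s
  induction s using Nat.strong_induction_on with
  | _ s ih =>
  intro x hs hxx
  have back : ∀ h ∈ M, #(sp ((h : Matrix (Fin n) (Fin n) F) *ᵥ x)) < s → UtIn hf M x := by
    intro h hh hlt
    have hy : hermForm n F q ((h : Matrix (Fin n) (Fin n) F) *ᵥ x)
        ((h : Matrix (Fin n) (Fin n) F) *ᵥ x) = 0 := by rw [mem_isoGrp.1 (hM hh), hxx]
    have := (ih _ hlt _ rfl hy).conj hf hy (M.inv_mem hh) (hM (M.inv_mem hh))
    rwa [inv_mulVec_mulVec] at this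
  rcases le_or_gt s 2 with hs2 | hs3
  · by_cases hx0 : x = 0
    · rw [hx0]; exact utIn_zero
    obtain ⟨a, ha⟩ : ∃ a, x a ≠ 0 := by
      by_contra h
      push Not at h
      exact hx0 (funext h)
    obtain ⟨b, hba, hb⟩ : ∃ b, b ≠ a ∧ ∀ i, i ≠ a → i ≠ b → x i = 0 := by
      by_cases h : ∃ b, b ≠ a ∧ x b ≠ 0
      · obtain ⟨b, hba, hb⟩ := h
        refine ⟨b, hba, fun i h1 h2 => ?_⟩
        by_contra hi
        have h3 := card_le_card (s := ({a, b, i} : Finset (Fin n))) (t := sp x) fun j hj => by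
          simp only [mem_insert, Finset.mem_singleton] at hj
          rcases hj with rfl | rfl | rfl <;> simpa [mem_sp]
        rw [card_insert_of_notMem (by simp [hba.symm, Ne.symm h1]),
          card_insert_of_notMem (by simp [Ne.symm h2]), card_singleton] at h3
        omega
      · push Not at h
        exfalso
        rw [herm_sum hσ, sum_eq_single a (fun i _ hi => by rw [h i hi, zero_mul]) (by simp)] at hxx
        exact ha (by simpa [map_eq_zero] using hxx)
    exact hall a b hba.symm x (fun i h1 h2 => hb i h1 h2) hxx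
  -- at least three coordinates
  have hmem : ∀ a b, ∀ h ∈ M, a ∈ sp x → b ∈ sp x →
      (((h : Matrix (Fin n) (Fin n) F) *ᵥ x) a = 0 ∨ ((h : Matrix (Fin n) (Fin n) F) *ᵥ x) b = 0) →
      (∀ i, i ≠ a → i ≠ b → ((h : Matrix (Fin n) (Fin n) F) *ᵥ x) i = x i) →
      #(sp ((h : Matrix (Fin n) (Fin n) F) *ᵥ x)) < s := by
    intro a b h _ ha hb h0 hrest
    rw [← hs]
    refine card_lt_card ⟨fun i hi => ?_, fun hsub => ?_⟩
    · rw [mem_sp] at hi ⊢
      rcases eq_or_ne i a with rfl | h1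
      · exact mem_sp.1 ha
      rcases eq_or_ne i b with rfl | h2
      · exact mem_sp.1 hb
      rwa [← hrest i h1 h2]
    · exact h0.elim (mem_sp.1 (hsub ha)) (mem_sp.1 (hsub hb))
  let N : Fin n → F := fun i => x i * σ (x i)
  by_cases hgood : ∃ a b, a ≠ b ∧ a ∈ sp x ∧ b ∈ sp x ∧ N a + N b ≠ 0
  · obtain ⟨a, b, hab, ha, hb, hc⟩ := hgood
    obtain ⟨h, hh, -, h1, h2⟩ := kill hF hσ hab (hall a b hab) (mem_sp.1 ha) (mem_sp.1 hb) hc
    exact back h hh (hmem a b h hh ha hb h1 h2)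
  push Not at hgood
  obtain ⟨a, b, d, ha, hb, hd, hab, had, hbd⟩ := two_lt_card_iff.1 (hs ▸ hs3 : 2 < #(sp x))
  have h2 : (2 : F) = 0 := by
    have e : (2 : F) * N a = 0 := by
      linear_combination hgood a b hab ha hb + hgood a d had ha hd - hgood b d hbd hb hd
    refine (mul_eq_zero.1 e).resolve_right ?_
    exact mul_ne_zero (mem_sp.1 ha) (by simpa using mem_sp.1 ha)
  obtain ⟨ρ₀, hρ₀⟩ := Unitary.exists_norm_eq_neg_one hF
  rw [← hσ] at hρ₀
  obtain ⟨ρ, hρ, hφ0⟩ : ∃ ρ, ρ * σ ρ = -1 ∧ x a + x b * σ ρ ≠ 0 := by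
    obtain ⟨u, hu, hu1⟩ := exists_mem_ne (a := (1 : F)) (s := cs σ)
      (by rw [card_cs hF hσ]; omega)
    rw [mem_cs] at hu
    by_cases h : x a + x b * σ ρ₀ = 0
    · refine ⟨ρ₀ * u, by rw [map_mul]; linear_combination (ρ₀ * σ ρ₀) * hu + hρ₀, fun h' => hu1 ?_⟩
      rw [map_mul] at h'
      have e : x b * σ ρ₀ * (σ u - 1) = 0 := by linear_combination h' - h
      have hσu : σ u = 1 := sub_eq_zero.1 ((mul_eq_zero.1 e).resolve_left (mul_ne_zero
        (mem_sp.1 hb) (by simp only [ne_eq, map_eq_zero]; rintro rfl; simp at hρ₀)))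
      rw [hσu, mul_one] at hu
      exact hu
    · exact ⟨ρ₀, hρ₀, h⟩
  set φ := x a + x b * σ ρ
  obtain ⟨l, hl, hne⟩ : ∃ l : F, σ l = -l ∧ (x a + l * φ) * σ (x a + l * φ) ≠ N d := by
    by_contra hcon
    push Not at hcon
    have hcard : #(fx σ) ≤ 2 := by
      refine (card_le_card (t := {0, (φ * σ (x a) - x a * σ φ) / (φ * σ φ)}) fun r hr => ?_).trans
        card_le_two
      have hr' : σ r = -r := by rw [mem_fx.1 hr]; linear_combination r * h2
      have e0 := hcon 0 (by simp)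
      have e := hcon r hr'
      rw [← e0] at e
      simp only [zero_mul, add_zero, map_add, map_mul, hr'] at e
      have : r * ((φ * σ (x a) - x a * σ φ) - r * (φ * σ φ)) = 0 := by linear_combination e
      rcases mul_eq_zero.1 this with h | h
      · simp [h]
      · refine mem_insert.2 (Or.inr (Finset.mem_singleton.2 ?_))
        rw [eq_div_iff (mul_ne_zero hφ0 (by simpa using hφ0))]
        linear_combination -h
    rw [card_fx hF hσ] at hcard
    omega
  obtain ⟨h, hh, hhi, e1, e2, e3⟩ := shear hσ hab (hall a b hab) hρ hl x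
  set x' := (h : Matrix (Fin n) (Fin n) F) *ᵥ x
  by_cases hx'a : x' a = 0
  · exact back h hh (hmem a b h hh ha hb (Or.inl hx'a) e3)
  have hx'd : x' d = x d := e3 d had.symm hbd.symm
  have hc : x' a * σ (x' a) + x' d * σ (x' d) ≠ 0 := by
    intro h0
    apply hne
    rw [hx'd, e1] at h0
    linear_combination h0 - N d * h2
  obtain ⟨g, hg, -, g1, g3⟩ := kill hF hσ had (hall a d had) hx'a
    (by rw [hx'd]; exact mem_sp.1 hd) hc
  refine back (g * h) (M.mul_mem hg hh) ?_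
  rw [mul_mulVec, ← hs]
  refine card_lt_card ⟨fun i hi => ?_, fun hsub => g1.elim (mem_sp.1 (hsub ha)) (mem_sp.1 (hsub hd))⟩
  rw [mem_sp] at hi ⊢
  rcases eq_or_ne i a with rfl | i1
  · exact mem_sp.1 ha
  rcases eq_or_ne i d with rfl | i2
  · exact mem_sp.1 hd
  rcases eq_or_ne i b with rfl | i3
  · exact mem_sp.1 hb
  rwa [g3 i i1 i2, e3 i i1 i3] at hi

end Cfsg.Agent.H63.UDec
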